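import Cfsg.Agent.Omega.EH3.Rank1.Base
import Cfsg.Agent.Omega.EH3.NodeHom
import Cfsg.Agent.ThreePrime.SzRel
import Cfsg.Agent.S1163

/-!
# EH3: Suzuki nodes and the row `Sz(q)` (helper234)

* `exists_pull` : a homomorphism `ψ` of `E` onto `G₀` with 2-group kernel can be composed with an inner automorphism such
  that the preimage of a given Sylow 2-subgroup `T₀` is a given Sylow 2-subgroup `T`;
* `szPre`, `sz_comm`, `sz_pow`, `sz_index` : the data of `Sz(q)`;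
* `fix_of_hom_sz`, `fix_of_syl_sz` : **a Suzuki node fixes `a`**;
* `row_sz` : `RowEH3 K` for `K ≅ Sz(q)`.
-/

set_option autoImplicit false

namespace Cfsg.Agent.Omega.EH3.Rank1

open Subgroup TwoF
open scoped Pointwise

universe u v

section pull

variable {H G₀ : Type*} [Group H] [Group G₀] {E T : Subgroup H} {T₀ : Subgroup G₀}

/-- the pull back of a 2-group is a 2-group -/
theorem isPGroup_pull (ψ : E →* G₀) (hker : IsPGroup 2 ψ.ker) (hT₀ : IsPGroup 2 T₀) : IsPGroup 2 (pull ψ T₀) := by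
  rintro ⟨g, hg⟩
  obtain ⟨hE, h⟩ := (mem_pull ψ T₀).1 hg
  obtain ⟨k, hk⟩ := hT₀ ⟨_, h⟩
  have h1 : (⟨g, hE⟩ : E) ^ 2 ^ k ∈ ψ.ker := by
    rw [MonoidHom.mem_ker, map_pow]
    exact congrArg Subtype.val hk
  obtain ⟨l, hl⟩ := hker ⟨_, h1⟩
  refine ⟨k + l, Subtype.ext ?_⟩
  have h2 := congrArg (fun x : ψ.ker => ((x : E) : H)) hl
  have h3 : (g ^ 2 ^ k) ^ 2 ^ l = 1 := by simpa using h2
  show g ^ 2 ^ (k + l) = 1
  rw [pow_add, pow_mul, h3]

theorem exists_pull [Finite H] (P₀ : Sylow 2 G₀) (hTE : T ≤ E) (hT : IsPGroup 2 T)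
    (hmax : ∀ Q : Subgroup H, Q ≤ E → IsPGroup 2 Q → T ≤ Q → Q = T)
    (ψ : E →* G₀) (hψ : Function.Surjective ψ) (hker : IsPGroup 2 ψ.ker) :
    ∃ ψ' : E →* G₀, Function.Surjective ψ' ∧ IsPGroup 2 ψ'.ker ∧ pull ψ' (P₀ : Subgroup G₀) = T := by
  have : Fact (Nat.Prime 2) := ⟨Nat.prime_two⟩
  have : Finite G₀ := Finite.of_surjective ψ hψ
  obtain ⟨P, hP⟩ : ∃ P : Sylow 2 E, (P : Subgroup E) = T.subgroupOf E := by
    refine ⟨⟨T.subgroupOf E, hT.comap_subtype, ?_⟩, rfl⟩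
    intro Q hQ hle
    have h2 := hmax (Q.map E.subtype) (map_subtype_le Q) (hQ.map _) (by
      intro r hr
      exact ⟨⟨r, hTE hr⟩, hle hr, rfl⟩)
    rw [← h2]
    ext x
    simp [mem_subgroupOf]
  obtain ⟨g, hg⟩ := MulAction.exists_smul_eq G₀ (P.mapSurjective hψ) P₀
  let ψ' : E →* G₀ := (MulAut.conj g).toMonoidHom.comp ψ
  have hψ'v : ∀ x, ψ' x = g * ψ x * g⁻¹ := fun _ => rfl
  have hk : ψ'.ker = ψ.ker := by
    ext x
    rw [MonoidHom.mem_ker, MonoidHom.mem_ker, hψ'v]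
    constructor
    · intro h
      have h1 : ψ x = g⁻¹ * (g * ψ x * g⁻¹) * g := by group
      rw [h1, h]
      group
    · intro h
      rw [h]
      group
  have hker' : IsPGroup 2 ψ'.ker := by rw [hk]; exact hker
  refine ⟨ψ', (MulAut.conj g).surjective.comp hψ, hker', ?_⟩
  refine hmax _ (pull_le _ _) (isPGroup_pull ψ' hker' P₀.2) ?_
  intro t ht
  refine (mem_pull ψ' _).2 ⟨hTE ht, ?_⟩
  have h2 : (P₀ : Subgroup G₀) = MulAut.conj g • (P.mapSurjective hψ : Subgroup G₀) := by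
    rw [← hg, Sylow.coe_subgroup_smul]
  rw [h2, hψ'v]
  refine Subgroup.mem_pointwise_smul_iff_inv_smul_mem.2 ?_
  have h3 : (MulAut.conj g)⁻¹ • (g * ψ ⟨t, hTE ht⟩ * g⁻¹) = ψ ⟨t, hTE ht⟩ := by
    rw [← map_inv, MulAut.smul_def, MulAut.conj_apply]
    group
  rw [h3, Sylow.coe_mapSurjective]
  refine ⟨⟨t, hTE ht⟩, ?_, rfl⟩
  have h4 : (⟨t, hTE ht⟩ : E) ∈ (P : Subgroup E) := by rw [hP]; exact ht
  exact h4

/-- the index of the normalizer in `E` of the pull back -/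
theorem relIndex_pull (ψ : E →* G₀) (hψ : Function.Surjective ψ) (T₀ : Subgroup G₀) :
    (normalizer ((pull ψ T₀ : Subgroup H) : Set H)).relIndex E = (normalizer (T₀ : Set G₀)).index := by
  rw [Subgroup.relIndex, ← Subgroup.index_comap_of_surjective _ hψ]
  congr 1
  ext x
  rw [Subgroup.mem_subgroupOf, mem_normalizer_pull ψ hψ]
  rfl

end pull

/-! ### the Suzuki groups -/

section sz

open Cfsg.Agent.ThreePrime

variable {J : Type*} [Group J] {F : Type*} [Field F] (R : SzRel.Rel J F)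

theorem sz_ud_inj_mem {a b : F} {k : Fˣ} (h : R.u a b * R.d k ∈ R.T) : k = 1 := by
  obtain ⟨c, e, h1⟩ := h
  have h2 : R.u a b * R.d k = R.u c e * R.d 1 := by rw [h1, R.d_one, mul_one]
  exact (R.ud_inj h2).2.2

theorem sz_inter_mem {a b : F} (h : R.w * R.u a b * R.w ∈ normalizer (R.T : Set J)) : a = 0 ∧ b = 0 := by
  obtain ⟨c, e, k, h1⟩ := R.norm h
  exact R.inter a b c e k h1

/-- **`Sz(q)` is a rank one situation.** -/
theorem szPre [Finite F] : Pre (⊤ : Subgroup J) R.T ⊥ where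
  T_le := le_top
  O_le := bot_le
  two := R.isPGroup
  norm := by
    intro g _ o ho
    rw [mem_bot] at ho ⊢
    rw [ho, mul_one, mul_inv_cancel]
  trans := by
    intro g _ hg h _ hh
    rcases R.bruhat g with ⟨a, b, k, h1⟩ | ⟨a, b, c, e, k, h1⟩
    · exact absurd (h1 ▸ R.ud_mem_normalizer a b k) hg
    rcases R.bruhat h with ⟨a', b', k', h2⟩ | ⟨a', b', c', e', k', h2⟩
    · exact absurd (h2 ▸ R.ud_mem_normalizer a' b' k') hh
    refine ⟨R.u a' b' * (R.u a b)⁻¹, R.T.mul_mem (R.u_mem _ _) (R.T.inv_mem (R.u_mem _ _)), ?_⟩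
    have h3 : (R.u a' b' * (R.u a b)⁻¹ * g)⁻¹ * h = (R.u c e * R.d k)⁻¹ * (R.u c' e' * R.d k') := by
      rw [h1, h2]
      group
    rw [h3]
    exact mul_mem (inv_mem (R.ud_mem_normalizer _ _ _)) (R.ud_mem_normalizer _ _ _)
  core := by
    -- elements of the core are in the torus
    have key : ∀ g : J, (∀ h : J, h⁻¹ * g * h ∈ normalizer (R.T : Set J)) → ∃ k, g = R.d k := by
      intro g hg
      have h1 := hg 1
      rw [inv_one, one_mul, mul_one] at h1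
      obtain ⟨a, b, k, rfl⟩ := R.norm h1
      have h2 := hg R.w
      have h3 : R.w⁻¹ * (R.u a b * R.d k) * R.w = (R.w * R.u a b * R.w) * R.d k⁻¹ := by
        have h4 := R.w_mul_d k
        have h5 : R.d k * R.w = R.w * R.d k⁻¹ := by
          have h6 := R.w_mul_d k⁻¹
          rw [inv_inv] at h6
          exact h6.symm
        rw [R.w_inv]
        calc R.w * (R.u a b * R.d k) * R.w = R.w * R.u a b * (R.d k * R.w) := by group
          _ = _ := by rw [h5]; group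
      rw [h3] at h2
      have h4 : R.w * R.u a b * R.w ∈ normalizer (R.T : Set J) := by
        have h5 := mul_mem h2 (inv_mem (R.D_le (R.d_mem k⁻¹)))
        rwa [mul_inv_cancel_right] at h5
      obtain ⟨rfl, rfl⟩ := sz_inter_mem R h4
      exact ⟨k, by rw [R.u_zero, one_mul]⟩
    intro g _ hg
    have hg' : ∀ h : J, h⁻¹ * g * h ∈ normalizer (R.T : Set J) := fun h => hg h (mem_top h)
    obtain ⟨k, hk⟩ := key g hg'
    obtain ⟨l, hl⟩ := key ((R.u 0 1)⁻¹ * g * R.u 0 1) (by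
      intro h
      have := hg' (R.u 0 1 * h)
      have h1 : (R.u 0 1 * h)⁻¹ * g * (R.u 0 1 * h) = h⁻¹ * ((R.u 0 1)⁻¹ * g * R.u 0 1) * h := by group
      rwa [h1] at this)
    -- `[g, u]` lies in `T ∩ D`
    have h1 : (R.u 0 1)⁻¹ * (R.d k * R.u 0 1 * (R.d k)⁻¹) = R.d (l * k⁻¹) := by
      rw [← R.d_mul, ← hl, hk, ← R.d_inv]
      group
    have h2 : R.d (l * k⁻¹) ∈ R.T := by
      rw [← h1]
      refine R.T.mul_mem (R.T.inv_mem (R.u_mem _ _)) ?_
      rw [R.conj_d]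
      exact R.u_mem _ _
    have h3 : l * k⁻¹ = 1 := sz_ud_inj_mem R (a := 0) (b := 0) (by rwa [R.u_zero, one_mul])
    rw [h3, R.d_one] at h1
    have h4 : R.d k * R.u 0 1 * (R.d k)⁻¹ = R.u 0 1 := by
      have h5 := congrArg (fun x => R.u 0 1 * x) h1
      simpa using h5
    rcases R.fpf h4 with h5 | ⟨-, h5⟩
    · rw [mem_bot, hk, h5, R.d_one]
    · exact absurd h5 one_ne_zero

/-- commutators of `N(T)` lie in `T` -/
theorem sz_comm {g k : J} (hg : g ∈ normalizer (R.T : Set J)) (hk : k ∈ normalizer (R.T : Set J)) :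
    g * k * g⁻¹ * k⁻¹ ∈ R.T := by
  obtain ⟨a, b, x, rfl⟩ := R.norm hg
  obtain ⟨c, e, y, rfl⟩ := R.norm hk
  have hxy : R.d x * R.d y = R.d y * R.d x := by rw [R.d_mul, R.d_mul, mul_comm]
  have hN : ∀ z : Fˣ, ∀ t ∈ R.T, R.d z * t * (R.d z)⁻¹ ∈ R.T := by
    rintro z _ ⟨a, b, rfl⟩
    rw [R.conj_d]
    exact R.u_mem _ _
  have h1 : R.u a b * R.d x * (R.u c e * R.d y) * (R.u a b * R.d x)⁻¹ * (R.u c e * R.d y)⁻¹
      = R.u a b * (R.d x * R.u c e * (R.d x)⁻¹) * (R.d x * R.d y) * (R.d x)⁻¹ * (R.u a b)⁻¹ * (R.d y)⁻¹ * (R.u c e)⁻¹ := by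
    group
  rw [h1, hxy]
  have h2 : R.u a b * (R.d x * R.u c e * (R.d x)⁻¹) * (R.d y * R.d x) * (R.d x)⁻¹ * (R.u a b)⁻¹ * (R.d y)⁻¹ * (R.u c e)⁻¹
      = R.u a b * (R.d x * R.u c e * (R.d x)⁻¹) * (R.d y * (R.u a b)⁻¹ * (R.d y)⁻¹) * (R.u c e)⁻¹ := by
    group
  rw [h2]
  exact R.T.mul_mem (R.T.mul_mem (R.T.mul_mem (R.u_mem _ _) (hN _ _ (R.u_mem _ _)))
    (hN _ _ (R.T.inv_mem (R.u_mem _ _)))) (R.T.inv_mem (R.u_mem _ _))

/-- `g^(q-1) ∈ T` for `g ∈ N(T)` -/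
theorem sz_pow [Finite F] {g : J} (hg : g ∈ normalizer (R.T : Set J)) : g ^ (Nat.card F - 1) ∈ R.T := by
  obtain ⟨a, b, x, rfl⟩ := R.norm hg
  have hN : ∀ z : Fˣ, ∀ t ∈ R.T, R.d z * t * (R.d z)⁻¹ ∈ R.T := by
    rintro z _ ⟨a, b, rfl⟩
    rw [R.conj_d]
    exact R.u_mem _ _
  have key : ∀ n : ℕ, ∃ t ∈ R.T, (R.u a b * R.d x) ^ n = t * R.d (x ^ n) := by
    intro n
    induction n with
    | zero => exact ⟨1, R.T.one_mem, by rw [pow_zero, pow_zero, R.d_one, mul_one]⟩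
    | succ n ih =>
      obtain ⟨t, ht, h1⟩ := ih
      refine ⟨t * (R.d (x ^ n) * R.u a b * (R.d (x ^ n))⁻¹), R.T.mul_mem ht (hN _ _ (R.u_mem _ _)), ?_⟩
      rw [pow_succ, h1, pow_succ, ← R.d_mul]
      group
  obtain ⟨t, ht, h1⟩ := key (Nat.card F - 1)
  have h2 : x ^ (Nat.card F - 1) = 1 := by
    rw [← Nat.card_units]
    exact pow_card_eq_one'
  rw [h1, h2, R.d_one, mul_one]
  exact ht

/-- `|J : N(T)| > |F|` -/
theorem sz_index [Finite F] [Finite J] : Nat.card F < (normalizer (R.T : Set J)).index := by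
  classical
  let f : Option F → J ⧸ normalizer (R.T : Set J) := fun o =>
    match o with
    | none => QuotientGroup.mk 1
    | some z => QuotientGroup.mk (R.u 0 z * R.w)
  have hf : Function.Injective f := by
    have h0 : ∀ z : F, R.u 0 z * R.w ∉ normalizer (R.T : Set J) := by
      intro z hz
      apply R.w_not_mem_normalizer
      have := mul_mem (inv_mem (le_normalizer (R.u_mem 0 z))) hz
      rwa [inv_mul_cancel_left] at this
    intro x y hxy
    match x, y with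
    | none, none => rfl
    | none, some z =>
      exfalso
      have h1 := QuotientGroup.eq.1 hxy
      rw [inv_one, one_mul] at h1
      exact h0 z h1
    | some z, none =>
      exfalso
      have h1 := QuotientGroup.eq.1 hxy.symm
      rw [inv_one, one_mul] at h1
      exact h0 z h1
    | some z, some z' =>
      have h1 := QuotientGroup.eq.1 hxy
      have h2 : (R.u 0 z * R.w)⁻¹ * (R.u 0 z' * R.w) = R.w * R.u 0 (z + z') * R.w := by
        have h3 : (R.u 0 z)⁻¹ * R.u 0 z' = R.u 0 (z + z') := by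
          rw [R.u_inv, R.u_mul]
          congr 1
          · ring
          · ring
        rw [← h3, mul_inv_rev, R.w_inv]
        group
      rw [h2] at h1
      have h3 := (sz_inter_mem R h1).2
      have h4 : z = z' := by
        have h5 := R.two
        linear_combination h3 - z' * h5
      rw [h4]
  have h1 := Nat.card_le_card_of_injective f hf
  rw [Finite.card_option] at h1
  exact h1

/-- `T` is a Sylow 2-subgroup -/
theorem sz_sylow [Finite F] [Finite J] (ho : Odd (Nat.card F - 1)) : ∃ P : Sylow 2 J, (P : Subgroup J) = R.T :=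
  exists_sylow_of_odd R.isPGroup fun g hg => ⟨_, ho, sz_pow R hg⟩

end sz

section main

open Cfsg.Agent.ThreePrime

variable {H V : Type*} [Group H] [AddCommGroup V] [Module (ZMod 2) V]
  {ρ : H →* (V ≃ₗ[ZMod 2] V)} {b : LinearMap.BilinForm (ZMod 2) V} {q : V → ZMod 2}
  {a : V} {D : Submodule (ZMod 2) V} {X : Subgroup H} {w : ℕ} {E T : Subgroup H}
  {J : Type*} [Group J] {F : Type*} [Field F]

theorem arith {m : ℕ} (hm : 1 ≤ m) : 5 ≤ 2 ^ (2 * m + 1) ∧ Odd (2 ^ (2 * m + 1) - 1) ∧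
    Nat.Coprime (2 ^ (2 * m + 1) - 1) 3 := by
  have h1 : 2 ^ (2 * m + 1) = 2 * 4 ^ m := by rw [pow_succ, pow_mul]; norm_num [mul_comm]
  have h2 : 4 ≤ 4 ^ m := by
    calc 4 = 4 ^ 1 := by norm_num
      _ ≤ 4 ^ m := Nat.pow_le_pow_right (by norm_num) hm
  have h3 : 4 ^ m % 3 = 1 := by rw [Nat.pow_mod]; norm_num
  refine ⟨by omega, ⟨4 ^ m - 1, by omega⟩, ?_⟩
  rw [Nat.coprime_comm, (Nat.prime_three).coprime_iff_not_dvd]
  omega

/-- **Suzuki nodes fix `a`.** -/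
theorem fix_of_hom_sz [Finite F] (C : Cfg ρ b q a D X w) (R : SzRel.Rel J F) {m : ℕ} (hm : 1 ≤ m)
    (hF : Nat.card F = 2 ^ (2 * m + 1)) (hTE : T ≤ E) (hT : IsPGroup 2 T)
    (hmax : ∀ Q : Subgroup H, Q ≤ E → IsPGroup 2 Q → T ≤ Q → Q = T) (hx : XCond ρ a X E T)
    (ψ : E →* J) (hψ : Function.Surjective ψ) (hker : IsPGroup 2 ψ.ker) : ∀ g ∈ E, ρ g a = a := by
  have := C.finite_H
  have : Finite J := Finite.of_surjective ψ hψ
  obtain ⟨h5, ho, h3⟩ := arith hm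
  obtain ⟨P₀, hP₀⟩ := sz_sylow R (by rw [hF]; exact ho)
  obtain ⟨ψ', hψ', hker', hpull⟩ := exists_pull P₀ hTE hT hmax ψ hψ hker
  rw [hP₀] at hpull
  have hpre := (szPre R).comap ψ' hψ' hker'
  rw [hpull] at hpre
  have hN : ∀ g (hg : g ∈ E), g ∈ normalizer (T : Set H) → ψ' ⟨g, hg⟩ ∈ normalizer (R.T : Set J) := by
    intro g hg hgN
    rw [← hpull] at hgN
    exact (mem_normalizer_pull ψ' hψ' R.T ⟨g, hg⟩).1 hgN
  refine hpre.fix_of_coprime C hx ?_ ?_ ?_
  · intro g hg hgN k hk hkN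
    rw [← hpull]
    refine (mem_pull ψ' R.T).2 ⟨E.mul_mem (E.mul_mem (E.mul_mem hg hk) (E.inv_mem hg)) (E.inv_mem hk), ?_⟩
    have h1 := sz_comm R (hN g hg hgN) (hN k hk hkN)
    rw [← map_inv, ← map_inv, ← map_mul, ← map_mul, ← map_mul] at h1
    exact h1
  · intro g hg hgN
    refine ⟨2 ^ (2 * m + 1) - 1, ho, h3, ?_⟩
    rw [← hpull]
    refine (mem_pull ψ' R.T).2 ⟨E.pow_mem hg _, ?_⟩
    have h1 := sz_pow R (hN g hg hgN)
    rw [hF, ← map_pow] at h1
    exact h1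
  · rw [← hpull, relIndex_pull ψ' hψ']
    have h1 := sz_index R
    rw [hF] at h1
    omega

/-- Sylow form -/
theorem fix_of_syl_sz [Finite F] (C : Cfg ρ b q a D X w) (R : SzRel.Rel J F) {m : ℕ} (hm : 1 ≤ m)
    (hF : Nat.card F = 2 ^ (2 * m + 1)) (S : Sylow 2 H)
    (hS : (S : Subgroup H) ≤ stab ρ a) (hSE : ∀ s ∈ S, ∀ e ∈ E, s * e * s⁻¹ ∈ E)
    (ψ : E →* J) (hψ : Function.Surjective ψ) (hker : IsPGroup 2 ψ.ker) : ∀ g ∈ E, ρ g a = a := by
  have := C.finite_H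
  have hXS := C.X_le_syl S hS
  refine fix_of_hom_sz C R hm hF (T := (S : Subgroup H) ⊓ E) inf_le_right (S.isPGroup'.to_le inf_le_left) ?_ ?_
    ψ hψ hker
  · exact fun Q hQE hQ hle => syl_inf_maximal S hSE hQE hQ hle
  · exact ⟨fun x hx e he => hSE x (hXS hx) e he,
      fun x hx t ht => ⟨S.mul_mem (S.mul_mem (hXS hx) ht.1) (S.inv_mem (hXS hx)), hSE x (hXS hx) t ht.2⟩,
      fun t ht => hS ht.1⟩

/-- `3 ∤ |Sz(q)|` -/
theorem not_three_dvd {K : Type*} [Group K] (h : Cfsg.Lie.IsoSuzuki K) : ¬ 3 ∣ Nat.card K := by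
  obtain ⟨F, iF, iFin, m, hm, hF, ⟨e⟩⟩ := h
  rw [Nat.card_congr e.toEquiv, (Cfsg.Agent.S1163.result hm hF).1]
  have h1 : 2 ^ (2 * m + 1) = 2 * 4 ^ m := by rw [pow_succ, pow_mul]; norm_num [mul_comm]
  have h3 : 4 ^ m % 3 = 1 := by rw [Nat.pow_mod]; norm_num
  have h4 : 4 ≤ 4 ^ m := by
    calc 4 = 4 ^ 1 := by norm_num
      _ ≤ 4 ^ m := Nat.pow_le_pow_right (by norm_num) hm
  rw [Nat.Prime.dvd_mul Nat.prime_three, Nat.Prime.dvd_mul Nat.prime_three, not_or, not_or]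
  refine ⟨⟨?_, ?_⟩, ?_⟩
  · intro h
    have h5 := Nat.prime_three.dvd_of_dvd_pow (Nat.prime_three.dvd_of_dvd_pow h)
    omega
  · rw [h1]
    omega
  · rw [h1]
    intro h
    have h5 : (2 * 4 ^ m) ^ 2 % 3 = 1 := by
      rw [Nat.pow_mod, Nat.mul_mod, h3]
    omega

/-- **The row `Sz(q)`.** -/
theorem row_sz {K : Type v} [Group K] (hK : Cfsg.Lie.IsoSuzuki K) : RowEH3.{u} K := by
  intro H V _ _ _ ρ b q a D X w L π hL hπ hX C
  have := C.finite_H
  have h3 := not_three_dvd hK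
  obtain ⟨F, iF, iFin, m, hm, hF, ⟨R⟩⟩ := SzRel.exists_rel hK
  have : Finite K := Finite.of_surjective π hπ.surj
  have hpre := szPre R
  have hcen : center K = ⊥ := by
    rw [eq_bot_iff]
    intro g hg
    refine hpre.core g (mem_top g) fun h _ => ?_
    have h1 : h⁻¹ * g * h = g := by rw [mul_assoc, ← mem_center_iff.1 hg h, inv_mul_cancel_left]
    rw [h1, mem_normalizer_iff]
    intro t
    rw [← mem_center_iff.1 hg t, mul_inv_cancel_right]
  have hker : π.ker = ⊥ := by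
    refine C.oddKer_eq_bot hL hπ hcen fun P hP => ?_
    have : P = ⊥ := by
      rw [← Subgroup.card_eq_one]
      obtain ⟨n, hn⟩ := (IsPGroup.iff_card (p := 3) (G := P)).1 hP
      rcases Nat.eq_zero_or_pos n with h0 | h0
      · rw [hn, h0, pow_zero]
      · exfalso
        apply h3
        have h1 : 3 ∣ Nat.card P := by rw [hn]; exact dvd_pow_self 3 h0.ne'
        exact h1.trans (Subgroup.card_subgroup_dvd_card P)
    subst this
    exact isCyclic_of_subsingleton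
  obtain ⟨S, -, hS⟩ := C.exists_syl
  have hfix := fix_of_syl_sz C (E := L) R hm (by rw [Nat.card_eq_fintype_card, hF]) S hS
    (fun s _ l hl => hL.conj_mem l hl s) π hπ.surj (by rw [hker]; exact IsPGroup.of_bot)
  have hbot := C.eq_bot_of_normal_fix hL hfix
  obtain ⟨x, hx⟩ := hπ.surj R.w
  have hx1 : x = 1 := by
    have h1 : (x : H) ∈ (⊥ : Subgroup H) := hbot.le x.2
    exact Subtype.ext (mem_bot.1 h1)
  rw [hx1, map_one] at hx
  apply R.w_not_mem_normalizer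
  rw [← hx]
  exact one_mem _

end main

end Cfsg.Agent.Omega.EH3.Rank1
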