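import Cfsg.Agent.Omega.TwoF.Defs
import Mathlib

/-!
# Odd covers of `SL₂(F)`, `F` of characteristic 2 (helper234)

* `isCyclic_of_pGroup` : a `p`-subgroup (`p` odd) of `SL₂(F)`, `char F = 2`, is cyclic;
* `eq_one_of_center` : central `p`-elements of a perfect group with abelian Sylow `p`-subgroups are trivial;
* `ker_eq_bot` : an odd cover of a group `K` with cyclic Sylow `p`-subgroups for all odd `p` is an isomorphism;
* `ker_eq_bot_sl2` : an odd cover of `SL₂(F)` is an isomorphism.
-/

set_option autoImplicit false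

namespace Cfsg.Agent.Omega.EH3.Rank1.OddKer

open Subgroup TwoF
open scoped Matrix MatrixGroups commutatorElement

section cyc

theorem sq_of_fix {E : Type*} [Field E] [CharP E 2] {h : Matrix (Fin 2) (Fin 2) E} (hd : h.det = 1)
    {v : Fin 2 → E} (hv : v ≠ 0) (hh : h *ᵥ v = v) : h * h = 1 := by
  have h2 : (2 : E) = 0 := CharP.cast_eq_zero E 2
  have e0 := congrFun hh 0
  have e1 := congrFun hh 1
  simp only [Matrix.mulVec, dotProduct, Fin.sum_univ_two] at e0 e1
  rw [Matrix.det_fin_two] at hd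
  have k0 : (h 0 0 + h 1 1) * v 0 = 0 := by
    linear_combination -(h 1 1 - 1) * e0 + h 0 1 * e1 + v 0 * hd + v 0 * h2
  have k1 : (h 0 0 + h 1 1) * v 1 = 0 := by
    linear_combination -(h 0 0 - 1) * e1 + h 1 0 * e0 + v 1 * hd + v 1 * h2
  have ht : h 0 0 + h 1 1 = 0 := by
    by_contra hne
    apply hv
    ext i
    fin_cases i
    · exact (mul_eq_zero.1 k0).resolve_left hne
    · exact (mul_eq_zero.1 k1).resolve_left hne
  ext i j
  rw [Matrix.mul_apply, Fin.sum_univ_two]
  fin_cases i <;> fin_cases j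
  · show h 0 0 * h 0 0 + h 0 1 * h 1 0 = (1 : Matrix (Fin 2) (Fin 2) E) 0 0
    rw [Matrix.one_apply_eq]
    linear_combination h 0 0 * ht - hd - h2
  · show h 0 0 * h 0 1 + h 0 1 * h 1 1 = (1 : Matrix (Fin 2) (Fin 2) E) 0 1
    rw [Matrix.one_apply_ne (by decide)]
    linear_combination h 0 1 * ht
  · show h 1 0 * h 0 0 + h 1 1 * h 1 0 = (1 : Matrix (Fin 2) (Fin 2) E) 1 0
    rw [Matrix.one_apply_ne (by decide)]
    linear_combination h 1 0 * ht
  · show h 1 0 * h 0 1 + h 1 1 * h 1 1 = (1 : Matrix (Fin 2) (Fin 2) E) 1 1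
    rw [Matrix.one_apply_eq]
    linear_combination h 1 1 * ht - hd - h2

/-- odd order elements of order dividing two are trivial -/
theorem eq_one_of_sq {G : Type*} [Group G] {p : ℕ} (hp : p.Prime) (hp2 : p ≠ 2) {g : G} {n : ℕ}
    (h : g ^ p ^ n = 1) (h2 : g * g = 1) : g = 1 := by
  have hc : (p ^ n).Coprime 2 := Nat.Coprime.pow_left n ((Nat.coprime_primes hp Nat.prime_two).2 hp2)
  have h3 : g ^ Nat.gcd (p ^ n) 2 = 1 := by
    rw [← orderOf_dvd_iff_pow_eq_one]
    exact Nat.dvd_gcd (orderOf_dvd_of_pow_eq_one h) (orderOf_dvd_of_pow_eq_one (by rw [pow_two, h2]))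
  rwa [hc, pow_one] at h3

variable {F : Type*} [Field F] [CharP F 2]

/-- **`p`-subgroups of `SL₂(F)`, `p` odd, `char F = 2`, are cyclic.** -/
theorem isCyclic_of_pGroup {p : ℕ} (hp : p.Prime) (hp2 : p ≠ 2) (P : Subgroup SL(2, F)) [Finite P]
    (hP : IsPGroup p P) : IsCyclic P := by
  have hpf : Fact p.Prime := ⟨hp⟩
  by_cases hnt : Nontrivial P
  swap
  · rw [not_nontrivial_iff_subsingleton] at hnt
    exact isCyclic_of_subsingleton
  have hZ := hP.center_nontrivial
  obtain ⟨g, hg⟩ := exists_ne (1 : center P)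
  have hgc : ∀ h : P, (g : P) * h = h * (g : P) := fun h => (mem_center_iff.1 g.2 h).symm
  have hg1 : ((g : P) : SL(2, F)) ≠ 1 := by
    intro h
    apply hg
    exact Subtype.ext (Subtype.ext h)
  let E := AlgebraicClosure F
  have : CharP E 2 := charP_of_injective_algebraMap (algebraMap F E).injective 2
  let m : P → Matrix (Fin 2) (Fin 2) E := fun h => ((h : SL(2, F)) : Matrix (Fin 2) (Fin 2) F).map (algebraMap F E)
  have m_mul : ∀ h k : P, m (h * k) = m h * m k := by
    intro h k
    show (((h : SL(2, F)) * (k : SL(2, F)) : SL(2, F)) : Matrix (Fin 2) (Fin 2) F).map (algebraMap F E) = _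
    rw [Matrix.SpecialLinearGroup.coe_mul, Matrix.map_mul]
  have m_one : m 1 = 1 := by
    show (((1 : SL(2, F))) : Matrix (Fin 2) (Fin 2) F).map (algebraMap F E) = _
    rw [Matrix.SpecialLinearGroup.coe_one, Matrix.map_one _ (map_zero _) (map_one _)]
  have m_det : ∀ h : P, (m h).det = 1 := by
    intro h
    show (((h : SL(2, F)) : Matrix (Fin 2) (Fin 2) F).map (algebraMap F E)).det = 1
    have h1 := (algebraMap F E).map_det ((h : SL(2, F)) : Matrix (Fin 2) (Fin 2) F)
    rw [Matrix.SpecialLinearGroup.det_coe, map_one] at h1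
    exact h1.symm
  have m_inj : ∀ h k : P, m h = m k → h = k := by
    intro h k hk
    apply Subtype.ext
    apply Matrix.SpecialLinearGroup.ext
    intro i j
    have := congrFun (congrFun hk i) j
    exact (algebraMap F E).injective this
  -- an eigenvector of `g`
  obtain ⟨c, hc⟩ : ∃ c : E, (m g - Matrix.scalar (Fin 2) c).det = 0 := by
    have hdeg : (m g).charpoly.degree ≠ 0 := by
      rw [Matrix.charpoly_degree_eq_dim, Fintype.card_fin]
      norm_num
    obtain ⟨c, hc⟩ := IsAlgClosed.exists_root _ hdeg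
    refine ⟨c, ?_⟩
    have h1 : (Matrix.scalar (Fin 2) c - m g).det = 0 := by
      rw [← Matrix.eval_charpoly]
      exact hc
    rw [← neg_sub, Matrix.det_neg, h1, mul_zero]
  obtain ⟨v, hv, hgv⟩ := Matrix.exists_mulVec_eq_zero_iff.2 hc
  have hN : m g - Matrix.scalar (Fin 2) c ≠ 0 := by
    intro h0
    have h1 : m g = Matrix.scalar (Fin 2) c := sub_eq_zero.1 h0
    have h2 := m_det g
    rw [h1, Matrix.scalar_apply, Matrix.det_diagonal, Fin.prod_univ_two] at h2
    have h3 : c = 1 := by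
      have h4 : (c - 1) * (c - 1) = 0 := by
        have h5 : (2 : E) = 0 := CharP.cast_eq_zero E 2
        linear_combination h2 + (1 - c) * h5
      have h5 := mul_self_eq_zero.1 h4
      exact sub_eq_zero.1 h5
    apply hg1
    have h4 : (g : P) = 1 := m_inj _ _ (by rw [h1, h3, m_one, map_one])
    rw [h4]
    rfl
  -- parallel vectors
  have hpar : ∀ u : Fin 2 → E, (m g - Matrix.scalar (Fin 2) c) *ᵥ u = 0 → ∃ k : E, u = k • v := by
    intro u hu
    have hdet : u 0 * v 1 = u 1 * v 0 := by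
      obtain ⟨i, j, hij⟩ : ∃ i j, (m g - Matrix.scalar (Fin 2) c) i j ≠ 0 := by
        by_contra hcon
        push Not at hcon
        exact hN (Matrix.ext hcon)
      have a1 := congrFun hu i
      have a2 := congrFun hgv i
      simp only [Matrix.mulVec, dotProduct, Fin.sum_univ_two, Pi.zero_apply] at a1 a2
      have hA : (m g - Matrix.scalar (Fin 2) c) i 0 * (u 0 * v 1 - u 1 * v 0) = 0 := by
        linear_combination v 1 * a1 - u 1 * a2
      have hB : (m g - Matrix.scalar (Fin 2) c) i 1 * (u 0 * v 1 - u 1 * v 0) = 0 := by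
        linear_combination u 0 * a2 - v 0 * a1
      have hj : (m g - Matrix.scalar (Fin 2) c) i j * (u 0 * v 1 - u 1 * v 0) = 0 := by
        fin_cases j
        · exact hA
        · exact hB
      exact sub_eq_zero.1 ((mul_eq_zero.1 hj).resolve_left hij)
    by_cases hv0 : v 0 = 0
    · have hv1 : v 1 ≠ 0 := by
        intro h1
        apply hv
        ext i
        fin_cases i
        · exact hv0
        · exact h1
      refine ⟨u 1 / v 1, ?_⟩
      ext i
      fin_cases i
      · show u 0 = u 1 / v 1 * v 0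
        rw [hv0, mul_zero] at hdet ⊢
        exact (mul_eq_zero.1 hdet).resolve_right hv1
      · show u 1 = u 1 / v 1 * v 1
        rw [div_mul_cancel₀ _ hv1]
    · refine ⟨u 0 / v 0, ?_⟩
      ext i
      fin_cases i
      · show u 0 = u 0 / v 0 * v 0
        rw [div_mul_cancel₀ _ hv0]
      · show u 1 = u 0 / v 0 * v 1
        rw [div_mul_eq_mul_div, hdet, mul_div_cancel_right₀ _ hv0]
  have hcm : ∀ h : P, m g * m h = m h * m g := fun h => by rw [← m_mul, ← m_mul, hgc]
  have hsc : ∀ u : Fin 2 → E, Matrix.scalar (Fin 2) c *ᵥ u = c • u := by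
    intro u
    ext i
    rw [Matrix.scalar_apply, Matrix.mulVec_diagonal]
    rfl
  have key : ∀ h : P, ∃ k : E, m h *ᵥ v = k • v := by
    intro h
    apply hpar
    rw [Matrix.sub_mulVec, hsc] at hgv ⊢
    have h1 : m g *ᵥ v = c • v := sub_eq_zero.1 hgv
    rw [Matrix.mulVec_mulVec, hcm, ← Matrix.mulVec_mulVec, h1, Matrix.mulVec_smul, sub_self]
  choose f hf using key
  have hcan : ∀ k l : E, k • v = l • v → k = l := by
    intro k l hkl
    have h1 : (k - l) • v = 0 := by rw [sub_smul, hkl, sub_self]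
    exact sub_eq_zero.1 ((smul_eq_zero.1 h1).resolve_right hv)
  let f' : P →* E :=
    { toFun := f
      map_one' := by
        apply hcan
        rw [← hf, m_one, Matrix.one_mulVec, one_smul]
      map_mul' := by
        intro h k
        apply hcan
        rw [← hf, m_mul, ← Matrix.mulVec_mulVec, hf k, Matrix.mulVec_smul, hf h, smul_smul, mul_comm] }
  refine isCyclic_of_injective_ringHom f' ?_
  rw [injective_iff_map_eq_one]
  intro h hh
  have h1 : m h *ᵥ v = v := by
    rw [hf h]
    have : f h = 1 := hh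
    rw [this, one_smul]
  have h2 := sq_of_fix (m_det h) hv h1
  rw [← m_mul, ← m_one] at h2
  have h3 := m_inj _ _ h2
  obtain ⟨n, hn⟩ := hP h
  exact eq_one_of_sq hp hp2 hn h3

end cyc

section transfer

/-- central `p`-elements of a perfect group with abelian Sylow `p`-subgroups are trivial -/
theorem eq_one_of_center {K : Type*} [Group K] [Finite K] (hK : commutator K = ⊤) {p : ℕ} [Fact p.Prime]
    (P : Sylow p K) (hP : ∀ x ∈ P, ∀ y ∈ P, x * y = y * x) {z : K} (hz : z ∈ center K) {n : ℕ}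
    (hn : z ^ p ^ n = 1) : z = 1 := by
  let _ : CommGroup (P : Subgroup K) :=
    { (inferInstance : Group (P : Subgroup K)) with
      mul_comm := fun x y => Subtype.ext (hP x x.2 y y.2) }
  have h1 : (MonoidHom.transfer (MonoidHom.id (P : Subgroup K))) z = 1 := by
    have h2 : commutator K ≤ (MonoidHom.transfer (MonoidHom.id (P : Subgroup K))).ker :=
      Abelianization.commutator_subset_ker _
    rw [hK] at h2
    exact h2 (mem_top z)
  have key : ∀ (k : ℕ) (g₀ : K), g₀⁻¹ * z ^ k * g₀ ∈ (P : Subgroup K) → g₀⁻¹ * z ^ k * g₀ = z ^ k := by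
    intro k g _
    have h2 : z ^ k ∈ center K := pow_mem hz k
    rw [mul_assoc, ← mem_center_iff.1 h2 g, ← mul_assoc, inv_mul_cancel, one_mul]
  rw [MonoidHom.transfer_eq_pow _ _ key] at h1
  have h3 : z ^ (P : Subgroup K).index = 1 := congrArg Subtype.val h1
  have hidx : ¬ p ∣ (P : Subgroup K).index := P.not_dvd_index
  have hcop : (p ^ n).Coprime (P : Subgroup K).index :=
    Nat.Coprime.pow_left n (((Fact.out : p.Prime).coprime_iff_not_dvd).2 hidx)
  have h4 : z ^ Nat.gcd (p ^ n) (P : Subgroup K).index = 1 := by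
    rw [← orderOf_dvd_iff_pow_eq_one]
    exact Nat.dvd_gcd (orderOf_dvd_of_pow_eq_one hn) (orderOf_dvd_of_pow_eq_one h3)
  rwa [hcop, pow_one] at h4

/-- the `p`-part of the kernel of a perfect central extension is trivial if the Sylow `p`-subgroups of the image are
cyclic -/
theorem eq_one_of_cyclic {L : Type*} {K : Type*} [Group L] [Group K] [Finite L] {π : L →* K}
    (hL : commutator L = ⊤) (hc : π.ker ≤ center L) {p : ℕ} (hp : p.Prime)
    (hcyc : ∀ P : Subgroup K, IsPGroup p P → IsCyclic P) {z : L} (hz : z ∈ center L) {n : ℕ}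
    (hn : z ^ p ^ n = 1) : z = 1 := by
  have : Fact p.Prime := ⟨hp⟩
  obtain ⟨P⟩ : Nonempty (Sylow p L) := inferInstance
  refine eq_one_of_center hL P ?_ hz hn
  have hPm : IsPGroup p ((P : Subgroup L).map π) := P.2.map π
  have := hcyc _ hPm
  intro x hx y hy
  let f : (P : Subgroup L) →* ((P : Subgroup L).map π) := π.subgroupMap P
  have hf : f.ker ≤ center (P : Subgroup L) := by
    intro u hu
    rw [MonoidHom.mem_ker] at hu
    have h1 : (u : L) ∈ π.ker := congrArg Subtype.val hu
    rw [mem_center_iff]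
    intro v
    exact Subtype.ext (mem_center_iff.1 (hc h1) v)
  have h0 := MonoidHom.isMulCommutative_of_isCyclic_of_ker_le_center f hf
  exact congrArg Subtype.val (h0.is_comm.comm (⟨x, hx⟩ : (P : Subgroup L)) ⟨y, hy⟩)

/-- an element of a finite group of odd order is trivial if its Sylow parts are -/
theorem eq_one_of_parts {Z : Type*} [Group Z] [Finite Z] (hodd : Odd (Nat.card Z))
    (h : ∀ p : ℕ, p.Prime → p ≠ 2 → ∀ (z : Z) (n : ℕ), z ^ p ^ n = 1 → z = 1) (z : Z) : z = 1 := by
  by_contra hz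
  have h1 : orderOf z ≠ 1 := fun h1 => hz (orderOf_eq_one_iff.1 h1)
  obtain ⟨p, hp, hpd⟩ := Nat.exists_prime_and_dvd h1
  have hp2 : p ≠ 2 := by
    rintro rfl
    have h2 : 2 ∣ Nat.card Z := hpd.trans (orderOf_dvd_natCard z)
    exact (Nat.not_even_iff_odd.2 hodd) (even_iff_two_dvd.2 h2)
  obtain ⟨k, hk⟩ := hpd
  have h3 := h p hp hp2 (z ^ k) 1 (by rw [pow_one, ← pow_mul, mul_comm, ← hk, pow_orderOf_eq_one])
  have h4 : orderOf z ∣ k := orderOf_dvd_of_pow_eq_one h3
  have hk0 : 0 < k := by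
    rcases Nat.eq_zero_or_pos k with h0 | h0
    · rw [h0, mul_zero] at hk
      exact absurd hk (orderOf_pos z).ne'
    · exact h0
  have h5 := Nat.le_of_dvd hk0 h4
  rw [hk] at h5
  have h6 := hp.two_le
  nlinarith

/-- **an odd cover of a group with cyclic Sylow `p`-subgroups for odd `p` is an isomorphism** -/
theorem ker_eq_bot {L : Type*} {K : Type*} [Group L] [Group K] [Finite L] {π : L →* K} (hπ : OddCover π)
    (hcyc : ∀ p : ℕ, p.Prime → p ≠ 2 → ∀ P : Subgroup K, IsPGroup p P → IsCyclic P) : π.ker = ⊥ := by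
  rw [eq_bot_iff]
  intro z hz
  have h1 := eq_one_of_parts hπ.odd (fun p hp hp2 y n hn => by
    apply Subtype.ext
    refine eq_one_of_cyclic hπ.perf hπ.cent hp (hcyc p hp hp2) (hπ.cent y.2) (n := n) ?_
    have := congrArg Subtype.val hn
    simpa using this) ⟨z, hz⟩
  exact mem_bot.2 (congrArg Subtype.val h1)

/-- **an odd cover of `SL₂(F)`, `char F = 2`, is an isomorphism** -/
theorem ker_eq_bot_sl2 {F : Type*} [Field F] [Finite F] [CharP F 2] {L : Type*} [Group L] [Finite L]
    {π : L →* SL(2, F)} (hπ : OddCover π) : π.ker = ⊥ :=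
  ker_eq_bot hπ fun _ hp hp2 P hP => isCyclic_of_pGroup hp hp2 P hP

/-! ### Subgroups of odd covers -/

section lift

variable {L : Type*} {K : Type*} [Group L] [Group K] {π : L →* K}

/-- the perfect lift of a subgroup of `K` -/
def lft (π : L →* K) (E : Subgroup K) : Subgroup L := ⁅E.comap π, E.comap π⁆

theorem lft_le (π : L →* K) (E : Subgroup K) : lft π E ≤ E.comap π := Subgroup.commutator_le_self _

theorem map_lft (hs : Function.Surjective π) {E : Subgroup K} (hE : ⁅E, E⁆ = E) : (lft π E).map π = E := by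
  unfold lft
  rw [Subgroup.map_commutator, Subgroup.map_comap_eq_self_of_surjective hs, hE]

/-- everything normalising the preimage normalises the lift -/
theorem conj_lft (π : L →* K) (E : Subgroup K) (φ : MulAut L) (h : ∀ x, π x ∈ E → π (φ x) ∈ E) {x : L}
    (hx : x ∈ lft π E) : φ x ∈ lft π E := by
  have h1 : (E.comap π).map φ.toMonoidHom ≤ E.comap π := by
    rintro _ ⟨y, hy, rfl⟩
    exact h y hy
  have h2 : (lft π E).map φ.toMonoidHom ≤ lft π E := by
    unfold lft
    rw [Subgroup.map_commutator]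
    exact Subgroup.commutator_mono h1 h1
  exact h2 ⟨x, hx, rfl⟩

/-- `x ∈ π⁻¹(E)` is a product of an element of the lift and a central element of `ker π` -/
theorem exists_lft (hs : Function.Surjective π) {E : Subgroup K} (hE : ⁅E, E⁆ = E) {x : L} (hx : π x ∈ E) :
    ∃ e ∈ lft π E, ∃ z ∈ π.ker, x = e * z := by
  rw [← map_lft hs hE] at hx
  obtain ⟨e, he, hex⟩ := hx
  refine ⟨e, he, e⁻¹ * x, ?_, by group⟩
  rw [MonoidHom.mem_ker, map_mul, map_inv, hex, inv_mul_cancel]

theorem perfect_lft (hs : Function.Surjective π) (hc : π.ker ≤ center L) {E : Subgroup K} (hE : ⁅E, E⁆ = E) :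
    ⁅lft π E, lft π E⁆ = lft π E := by
  refine le_antisymm (Subgroup.commutator_le_self _) ?_
  conv_lhs => unfold lft
  rw [Subgroup.commutator_le]
  intro x hx y hy
  obtain ⟨e, he, z, hz, rfl⟩ := exists_lft hs hE hx
  obtain ⟨f, hf, w, hw, rfl⟩ := exists_lft hs hE hy
  have hz' := mem_center_iff.1 (hc hz)
  have hw' := mem_center_iff.1 (hc hw)
  have h1 : ⁅e * z, f * w⁆ = ⁅e, f⁆ := by
    rw [commutatorElement_def, commutatorElement_def]
    calc e * z * (f * w) * (e * z)⁻¹ * (f * w)⁻¹ = e * (z * (f * w)) * (e * z)⁻¹ * (f * w)⁻¹ := by group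
      _ = e * ((f * w) * z) * (e * z)⁻¹ * (f * w)⁻¹ := by rw [← hz' (f * w)]
      _ = e * (f * w) * e⁻¹ * (f * w)⁻¹ := by group
      _ = e * f * (w * e⁻¹) * (f * w)⁻¹ := by group
      _ = e * f * (e⁻¹ * w) * (f * w)⁻¹ := by rw [← hw' e⁻¹]
      _ = _ := by group
  rw [h1]
  exact Subgroup.commutator_mem_commutator he hf

/-- **(r1)** `π` is injective on the lift of a perfect subgroup with cyclic `p`-subgroups, `p ∣ |ker π|` -/
theorem inf_ker_eq_bot [Finite L] (hπ : OddCover π) {E : Subgroup K} (hE : ⁅E, E⁆ = E)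
    (hcyc : ∀ p : ℕ, p.Prime → p ∣ Nat.card π.ker → ∀ P : Subgroup E, IsPGroup p P → IsCyclic P) :
    lft π E ⊓ π.ker = ⊥ := by
  let f : lft π E →* E := (π.comp (lft π E).subtype).codRestrict E (fun x => lft_le π E x.2)
  have hfv : ∀ x, ((f x : E) : K) = π x := fun _ => rfl
  have hperf : commutator (lft π E) = ⊤ := by
    have h1 := perfect_lft hπ.surj hπ.cent hE
    have h2 : (commutator (lft π E)).map (lft π E).subtype = lft π E := by
      rw [commutator_def, Subgroup.map_commutator, ← MonoidHom.range_eq_map, Subgroup.range_subtype, h1]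
    rw [eq_top_iff]
    intro x _
    have h3 : (x : L) ∈ (commutator (lft π E)).map (lft π E).subtype := by rw [h2]; exact x.2
    obtain ⟨y, hy, hyx⟩ := h3
    rwa [← Subtype.ext hyx]
  have hker : ∀ x : lft π E, x ∈ f.ker ↔ (x : L) ∈ π.ker := by
    intro x
    rw [MonoidHom.mem_ker, MonoidHom.mem_ker]
    exact ⟨fun h => congrArg Subtype.val h, fun h => Subtype.ext h⟩
  have hcent : f.ker ≤ center (lft π E) := by
    intro x hx
    rw [mem_center_iff]
    intro y
    exact Subtype.ext (mem_center_iff.1 (hπ.cent ((hker x).1 hx)) y)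
  have hdvd : Nat.card f.ker ∣ Nat.card π.ker := by
    have h1 : f.ker.map (lft π E).subtype ≤ π.ker := by
      rintro _ ⟨x, hx, rfl⟩
      exact (hker x).1 hx
    rw [Nat.card_congr (f.ker.equivMapOfInjective _ (lft π E).subtype_injective).toEquiv]
    exact Subgroup.card_dvd_of_le h1
  have hodd : Odd (Nat.card f.ker) := hπ.odd.of_dvd_nat hdvd
  rw [eq_bot_iff]
  rintro z ⟨hz, hzk⟩
  have hz' : (⟨z, hz⟩ : lft π E) ∈ f.ker := (hker _).2 hzk
  have h1 := eq_one_of_parts hodd (fun p hp hp2 y n hn => by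
    by_cases hpd : p ∣ Nat.card π.ker
    · apply Subtype.ext
      refine eq_one_of_cyclic hperf hcent hp (hcyc p hp hpd) (hcent y.2) (n := n) ?_
      have := congrArg Subtype.val hn
      simpa using this
    · -- `p` does not divide the order of the kernel
      have h2 : orderOf y ∣ p ^ n := orderOf_dvd_of_pow_eq_one hn
      have h3 : orderOf y ∣ Nat.card π.ker := (orderOf_dvd_natCard y).trans hdvd
      have hcop : (p ^ n).Coprime (Nat.card π.ker) :=
        Nat.Coprime.pow_left n ((hp.coprime_iff_not_dvd).2 hpd)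
      exact orderOf_eq_one_iff.1 (Nat.eq_one_of_dvd_coprimes hcop h2 h3)) ⟨⟨z, hz⟩, hz'⟩
  have h2 := congrArg (fun y : f.ker => ((y : lft π E) : L)) h1
  exact mem_bot.2 h2

/-- 2-elements of the preimage lie in the lift -/
theorem mem_lft_of_two [Finite L] (hπ : OddCover π) {E : Subgroup K} (hE : ⁅E, E⁆ = E)
    (hk : lft π E ⊓ π.ker = ⊥) {x : L} (hx : π x ∈ E) {n : ℕ} (hn : x ^ 2 ^ n = 1) : x ∈ lft π E := by
  obtain ⟨e, he, z, hz, rfl⟩ := exists_lft hπ.surj hE hx
  have hc : Commute e z := mem_center_iff.1 (hπ.cent hz) e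
  rw [hc.mul_pow] at hn
  have h1 : z ^ 2 ^ n ∈ lft π E ⊓ π.ker := by
    refine ⟨?_, pow_mem hz _⟩
    show z ^ 2 ^ n ∈ lft π E
    rw [eq_inv_of_mul_eq_one_right hn]
    exact inv_mem (pow_mem he _)
  rw [hk, mem_bot] at h1
  have h2 : orderOf z ∣ 2 ^ n := orderOf_dvd_of_pow_eq_one h1
  have h3 : orderOf z ∣ Nat.card π.ker := by
    have := orderOf_dvd_natCard (⟨z, hz⟩ : π.ker)
    rwa [Subgroup.orderOf_mk] at this
  have hcop : (2 ^ n).Coprime (Nat.card π.ker) :=
    Nat.Coprime.pow_left n (Nat.coprime_two_left.2 hπ.odd)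
  have h4 : z = 1 := orderOf_eq_one_iff.1 (Nat.eq_one_of_dvd_coprimes hcop h2 h3)
  rw [h4, mul_one]
  exact he

/-- **the isomorphism of the lift with `E`** -/
theorem exists_equiv (hπ : OddCover π) {E : Subgroup K} (hE : ⁅E, E⁆ = E)
    (hk : lft π E ⊓ π.ker = ⊥) : ∃ f : lft π E ≃* E, ∀ x, ((f x : E) : K) = π x := by
  let f : lft π E →* E := (π.comp (lft π E).subtype).codRestrict E (fun x => lft_le π E x.2)
  refine ⟨MulEquiv.ofBijective f ⟨?_, ?_⟩, fun _ => rfl⟩
  · rw [injective_iff_map_eq_one]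
    intro x hx
    have h1 : (x : L) ∈ lft π E ⊓ π.ker := ⟨x.2, congrArg Subtype.val hx⟩
    rw [hk] at h1
    exact Subtype.ext (mem_bot.1 h1)
  · intro y
    have h1 : (y : K) ∈ (lft π E).map π := by rw [map_lft hπ.surj hE]; exact y.2
    obtain ⟨x, hx, hxy⟩ := h1
    exact ⟨⟨x, hx⟩, Subtype.ext hxy⟩

end lift

end transfer

end Cfsg.Agent.Omega.EH3.Rank1.OddKer
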