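import Cfsg.Agent.Omega.EH3.NodeS
import Cfsg.Agent.Omega.EH3.Row
import Cfsg.Agent.Omega.EH3.Rank1.OddKer

/-!
# EH3, rows of rank one: the general part (helper234)

* `Cfg.eq_bot_of_normal_fix` : a normal subgroup fixing `a` is trivial;
* `Cfg.center_cube` : `Z(L)` of odd order has exponent 3 for `L` normal in `H` (LEMMA CUBE);
* `Cfg.oddKer_eq_bot` : a normal odd cover `L` of `K` is `K` if the 3-subgroups of `K` are cyclic;
* `Cfg.exists_T_sub` : `T = S ∩ L`, `S` a Sylow 2-subgroup of `H` with `X ≤ S ≤ H_a`;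
* `Pre.mapInj`, `NodeL.mapInj` : transport of nodes along an injective homomorphism.
-/

set_option autoImplicit false

namespace Cfsg.Agent.Omega.EH3

open Subgroup TwoF
open scoped Pointwise

universe u v

namespace Cfg

variable {H V : Type*} [Group H] [AddCommGroup V] [Module (ZMod 2) V]
  {ρ : H →* (V ≃ₗ[ZMod 2] V)} {b : LinearMap.BilinForm (ZMod 2) V} {q : V → ZMod 2}
  {a : V} {D : Submodule (ZMod 2) V} {X : Subgroup H} {w : ℕ}

/-- a normal subgroup fixing `a` is trivial -/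
theorem eq_bot_of_normal_fix (C : Cfg ρ b q a D X w) {N : Subgroup H} (hN : N.Normal) (h : ∀ n ∈ N, ρ n a = a) :
    N = ⊥ := by
  have hinv : ∀ g, ∀ u ∈ C.fixV N, ρ g u ∈ C.fixV N := by
    intro g u hu n hn
    have h1 := hu _ (hN.conj_mem n hn g⁻¹)
    have h2 : ρ (g * (g⁻¹ * n * g⁻¹⁻¹)) u = ρ (n * g) u := by congr 2; group
    rw [← C.ρ_mul, ← h2, C.ρ_mul, h1]
  rcases C.irr _ hinv with h1 | h1
  · exfalso
    apply C.a_ne
    have : a ∈ C.fixV N := h
    rw [h1] at this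
    exact this
  · rw [eq_bot_iff]
    intro n hn
    rw [Subgroup.mem_bot]
    apply C.ext
    intro u
    have : u ∈ C.fixV N := by rw [h1]; trivial
    rw [this n hn, C.ρ_one]

/-- an abelian normal subgroup of odd order has exponent 3 -/
theorem cube_of_normal (C : Cfg ρ b q a D X w) {N : Subgroup H} (hN : N.Normal)
    (hc : ∀ x ∈ N, ∀ y ∈ N, x * y = y * x) (ho : Odd (Nat.card N)) : ∀ z ∈ N, z ^ 3 = 1 := by
  have := C.finite_H
  have h1 : ∀ z ∈ N, ρ (z ^ 3) a = a := by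
    refine C.cube (fun x _ g hg => hN.conj_mem g hg x) ?_ ?_
    · intro g hg h hh
      rw [hc g hg h hh, mul_inv_cancel_right, mul_inv_cancel, C.ρ_one]
    · intro g hg
      refine ⟨_, ho, ?_⟩
      have h2 : (⟨g, hg⟩ : N) ^ Nat.card N = 1 := pow_card_eq_one'
      have h3 : g ^ Nat.card N = 1 := by
        have h4 := congrArg Subtype.val h2
        rwa [SubmonoidClass.coe_pow] at h4
      rw [h3, C.ρ_one]
  let M : Subgroup H :=
    { carrier := {y | ∃ z ∈ N, z ^ 3 = y}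
      one_mem' := ⟨1, N.one_mem, one_pow 3⟩
      mul_mem' := by
        rintro _ _ ⟨x, hx, rfl⟩ ⟨y, hy, rfl⟩
        exact ⟨x * y, N.mul_mem hx hy, (show Commute x y from hc x hx y hy).mul_pow 3⟩
      inv_mem' := by
        rintro _ ⟨x, hx, rfl⟩
        exact ⟨x⁻¹, N.inv_mem hx, inv_pow x 3⟩ }
  have hM : M.Normal := ⟨by
    rintro _ ⟨x, hx, rfl⟩ g
    exact ⟨g * x * g⁻¹, hN.conj_mem x hx g, conj_pow⟩⟩
  have hM1 : M = ⊥ := C.eq_bot_of_normal_fix hM (by
    rintro _ ⟨x, hx, rfl⟩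
    exact h1 x hx)
  intro z hz
  have : z ^ 3 ∈ M := ⟨z, hz, rfl⟩
  rw [hM1] at this
  exact mem_bot.1 this

/-- `Z(L)` of odd order has exponent 3 -/
theorem center_cube (C : Cfg ρ b q a D X w) {L : Subgroup H} (hL : L.Normal) (ho : Odd (Nat.card (center L))) :
    ∀ z ∈ center L, z ^ 3 = 1 := by
  have hN : ((center L).map L.subtype).Normal := inferInstance
  have h1 := C.cube_of_normal hN (by
    rintro _ ⟨x, hx, rfl⟩ _ ⟨y, hy, rfl⟩
    rw [← map_mul, ← map_mul, mem_center_iff.1 hy x]) (by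
    rwa [Nat.card_congr ((center L).equivMapOfInjective _ L.subtype_injective).symm.toEquiv])
  intro z hz
  have h2 := h1 z ⟨z, hz, rfl⟩
  exact Subtype.ext (by simpa using h2)

/-- **a normal odd cover of a centreless group with cyclic 3-subgroups is an isomorphism** -/
theorem oddKer_eq_bot (C : Cfg ρ b q a D X w) {L : Subgroup H} (hL : L.Normal) {K : Type*} [Group K] {π : L →* K}
    (hπ : OddCover π) (hK : center K = ⊥) (h3 : ∀ P : Subgroup K, IsPGroup 3 P → IsCyclic P) : π.ker = ⊥ := by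
  have := C.finite_H
  have hk := hπ.ker_eq hK
  have ho : Odd (Nat.card (center L)) := hk ▸ hπ.odd
  rw [eq_bot_iff]
  intro z hz
  have hz' : z ∈ center L := hk ▸ hz
  exact mem_bot.2 (Rank1.OddKer.eq_one_of_cyclic hπ.perf hπ.cent Nat.prime_three h3 hz' (n := 1)
    (by rw [pow_one]; exact C.center_cube hL ho z hz'))

/-- **`T = S ∩ L`** is a Sylow 2-subgroup of the normal subgroup `L`, fixes `a` and is normalised by `X`. -/
theorem exists_T_sub (C : Cfg ρ b q a D X w) {L : Subgroup H} (hL : L.Normal) :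
    ∃ T : Sylow 2 L, XCond ρ a X L ((T : Subgroup L).map L.subtype) ∧
      ∃ S : Sylow 2 H, X ≤ (S : Subgroup H) ∧ (∀ s ∈ S, ρ s a = a) ∧
        (T : Subgroup L).map L.subtype = (S : Subgroup H) ⊓ L := by
  have := C.finite_H
  have h2 : Fact (Nat.Prime 2) := ⟨Nat.prime_two⟩
  obtain ⟨S, hXS, hS⟩ := C.exists_sylow
  have hp : IsPGroup 2 ((S : Subgroup H).subgroupOf L) := S.2.comap_of_injective _ L.subtype_injective
  obtain ⟨T, hT⟩ := hp.exists_le_sylow
  obtain ⟨Q, hQ⟩ := Sylow.exists_comap_subtype_eq T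
  obtain ⟨g, hg⟩ := MulAction.exists_smul_eq H S Q
  have hcard : Nat.card T ≤ Nat.card ((S : Subgroup H).subgroupOf L) := by
    refine Nat.card_le_card_of_injective
      (fun t : T => (⟨⟨g⁻¹ * (t : L) * g, ?_⟩, ?_⟩ : (S : Subgroup H).subgroupOf L)) ?_
    · have := hL.conj_mem ((t : L) : H) (t : L).2 g⁻¹
      rwa [inv_inv] at this
    · rw [Subgroup.mem_subgroupOf]
      have h1 : ((t : L) : H) ∈ (Q : Subgroup H) := by
        have : (t : L) ∈ (T : Subgroup L) := t.2
        rw [← hQ] at this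
        exact this
      rw [← hg, Sylow.coe_subgroup_smul, Subgroup.mem_pointwise_smul_iff_inv_smul_mem] at h1
      simpa [MulAut.smul_def] using h1
    · intro t s hts
      have h1 : g⁻¹ * ((t : L) : H) * g = g⁻¹ * ((s : L) : H) * g :=
        congrArg (fun x : (S : Subgroup H).subgroupOf L => ((x : L) : H)) hts
      exact Subtype.ext (Subtype.ext (mul_left_cancel (mul_right_cancel h1)))
  have hTS : (S : Subgroup H).subgroupOf L = T := eq_of_le_of_card_ge hT hcard
  have hmap : (T : Subgroup L).map L.subtype = (S : Subgroup H) ⊓ L := by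
    rw [← hTS, Subgroup.subgroupOf_map_subtype]
  refine ⟨T, ⟨fun x _ e he => hL.conj_mem e he x, ?_, ?_⟩, S, hXS, hS, hmap⟩
  · intro x hx t ht
    rw [hmap] at ht ⊢
    exact ⟨(S : Subgroup H).mul_mem ((S : Subgroup H).mul_mem (hXS hx) ht.1) ((S : Subgroup H).inv_mem (hXS hx)),
      hL.conj_mem t ht.2 x⟩
  · intro t ht
    rw [hmap] at ht
    exact hS t ht.1

end Cfg

/-! ### transport along injective homomorphisms -/

section map

variable {K : Type*} {H : Type*} [Group K] [Group H]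

theorem Rank1.mem_normalizer_map {f : K →* H} (hf : Function.Injective f) {T : Subgroup K} {k : K} :
    f k ∈ normalizer ((T.map f : Subgroup H) : Set H) ↔ k ∈ normalizer (T : Set K) := by
  rw [mem_normalizer_iff, mem_normalizer_iff]
  constructor
  · intro h t
    have h1 := h (f t)
    have h2 : f k * f t * (f k)⁻¹ = f (k * t * k⁻¹) := by simp
    rw [h2] at h1
    rwa [mem_map_iff_mem hf, mem_map_iff_mem hf] at h1
  · intro h x
    constructor
    · rintro ⟨t, ht, rfl⟩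
      exact ⟨k * t * k⁻¹, (h t).1 ht, by simp⟩
    · rintro ⟨t, ht, hte⟩
      refine ⟨k⁻¹ * t * k, ?_, ?_⟩
      · have := (h (k⁻¹ * t * k)).2 (by
          have h1 : k * (k⁻¹ * t * k) * k⁻¹ = t := by group
          rw [h1]; exact ht)
        exact this
      · rw [map_mul, map_mul, hte, map_inv]
        group

theorem Pre.mapInj {E T O : Subgroup K} (h : Pre E T O) {f : K →* H} (hf : Function.Injective f) :
    Pre (E.map f) (T.map f) (O.map f) where
  T_le := Subgroup.map_mono h.T_le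
  O_le := Subgroup.map_mono h.O_le
  two := h.two.map f
  norm := by
    rintro _ ⟨g, hg, rfl⟩ _ ⟨o, ho, rfl⟩
    exact ⟨g * o * g⁻¹, h.norm g hg o ho, by simp⟩
  trans := by
    rintro _ ⟨g, hg, rfl⟩ hgN _ ⟨k, hk, rfl⟩ hkN
    rw [Rank1.mem_normalizer_map hf] at hgN hkN
    obtain ⟨t, ht, h1⟩ := h.trans g hg hgN k hk hkN
    refine ⟨f t, ⟨t, ht, rfl⟩, ?_⟩
    have h2 : (f t * f g)⁻¹ * f k = f ((t * g)⁻¹ * k) := by simp
    rw [h2, Rank1.mem_normalizer_map hf]
    exact h1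
  core := by
    rintro _ ⟨g, hg, rfl⟩ h1
    refine ⟨g, h.core g hg fun k hk => ?_, rfl⟩
    have h2 := h1 (f k) ⟨k, hk, rfl⟩
    have h3 : (f k)⁻¹ * f g * f k = f (k⁻¹ * g * k) := by simp
    rwa [h3, Rank1.mem_normalizer_map hf] at h2

theorem NodeL.mapInj {F : Type*} [Field F] {E T O : Subgroup K} {φ : K → F} {c : K} {lam : F}
    (h : NodeL E T O φ c lam) {f : K →* H} (hf : Function.Injective f) :
    ∃ φ' : H → F, (∀ k, φ' (f k) = φ k) ∧ NodeL (E.map f) (T.map f) (O.map f) φ' (f c) lam := by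
  classical
  refine ⟨fun x => φ (Function.invFun f x), ?_, ?_⟩
  · intro k
    show φ (Function.invFun f (f k)) = φ k
    rw [Function.leftInverse_invFun hf]
  have hφ : ∀ k, φ (Function.invFun f (f k)) = φ k := fun k => by rw [Function.leftInverse_invFun hf]
  refine { h.toPre.mapInj hf with
    map_mul := ?_
    ker := ?_
    surj := ?_
    c_mem := ⟨c, h.c_mem, rfl⟩
    c_norm := (Rank1.mem_normalizer_map hf).2 h.c_norm
    gen := ?_
    act := ?_
    ne := h.ne
    ord := h.ord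
    tor := ⟨_, h.tor, by simp⟩ }
  · rintro _ ⟨s, hs, rfl⟩ _ ⟨t, ht, rfl⟩
    rw [← _root_.map_mul, hφ, hφ, hφ]
    exact h.map_mul s hs t ht
  · rintro _ ⟨s, hs, rfl⟩
    rw [hφ, h.ker s hs, mem_map_iff_mem hf]
  · intro x
    obtain ⟨t, ht, hx⟩ := h.surj x
    exact ⟨f t, ⟨t, ht, rfl⟩, by rw [hφ]; exact hx⟩
  · rintro _ ⟨g, hg, rfl⟩ hgN
    rw [Rank1.mem_normalizer_map hf] at hgN
    obtain ⟨k, t, ht, h1⟩ := h.gen g hg hgN
    exact ⟨k, f t, ⟨t, ht, rfl⟩, by rw [h1]; simp⟩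
  · rintro _ ⟨t, ht, rfl⟩
    have h1 : f c * f t * (f c)⁻¹ = f (c * t * c⁻¹) := by simp
    rw [h1, hφ, hφ]
    exact h.act t ht

/-- a 2-subgroup `T` such that every element of `N(T)` has an odd power in `T` is a Sylow 2-subgroup -/
theorem Rank1.exists_sylow_of_odd [Finite K] {T : Subgroup K} (h2 : IsPGroup 2 T)
    (h : ∀ g ∈ normalizer (T : Set K), ∃ m : ℕ, Odd m ∧ g ^ m ∈ T) : ∃ P : Sylow 2 K, (P : Subgroup K) = T := by
  have : Fact (Nat.Prime 2) := ⟨Nat.prime_two⟩
  obtain ⟨P, hP⟩ := h2.exists_le_sylow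
  refine ⟨P, ?_⟩
  by_contra hne
  have hlt : T < (P : Subgroup K) := lt_of_le_of_ne hP (Ne.symm hne)
  have hnc : NormalizerCondition (P : Subgroup K) := by
    have := P.2.isNilpotent
    exact Group.normalizerCondition_of_isNilpotent
  have h3 : T.subgroupOf (P : Subgroup K) < ⊤ := by
    rw [lt_top_iff_ne_top]
    intro h4
    rw [subgroupOf_eq_top] at h4
    exact hne (le_antisymm h4 hP)
  obtain ⟨x, hx, hxT⟩ := SetLike.exists_of_lt (hnc _ h3)
  apply hxT
  rw [Subgroup.mem_subgroupOf]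
  have hxN : (x : K) ∈ normalizer (T : Set K) := by
    rw [mem_normalizer_iff] at hx ⊢
    intro t
    constructor
    · intro ht
      exact (hx ⟨t, hP ht⟩).1 ht
    · intro ht
      have h5 : t ∈ (P : Subgroup K) := by
        have h6 : t = (x : K)⁻¹ * (x * t * (x : K)⁻¹) * x := by group
        rw [h6]
        exact mul_mem (mul_mem (inv_mem x.2) (hP ht)) x.2
      exact (hx ⟨t, h5⟩).2 ht
  obtain ⟨m, hm, h4⟩ := h x hxN
  obtain ⟨n, hn⟩ := P.2 x
  have hn' : (x : K) ^ 2 ^ n = 1 := by simpa using congrArg Subtype.val hn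
  have hcop : Nat.Coprime m (2 ^ n) := Nat.Coprime.pow_right n (Nat.coprime_two_right.2 hm)
  have h5 : (x : K) ^ (Nat.gcd m (2 ^ n) : ℤ) ∈ T := by
    rw [Nat.gcd_eq_gcd_ab, zpow_add, zpow_mul, zpow_mul]
    refine mul_mem (zpow_mem ?_ _) (zpow_mem ?_ _)
    · rw [zpow_natCast]; exact h4
    · rw [zpow_natCast, hn']; exact T.one_mem
  rw [hcop] at h5
  simpa using h5

/-- an isomorphism `L ≃* K` can be inverted to `f : K → H` with `f(U) = T` for given Sylow 2-subgroups -/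
theorem Rank1.exists_transport [Finite H] {L : Subgroup H} (f₀ : L ≃* K) (T : Sylow 2 L) (U : Sylow 2 K) :
    ∃ f : K →* H, Function.Injective f ∧ (⊤ : Subgroup K).map f = L ∧
      (U : Subgroup K).map f = (T : Subgroup L).map L.subtype := by
  have hp : Fact (Nat.Prime 2) := ⟨Nat.prime_two⟩
  have hfin : Finite K := Finite.of_equiv L f₀.toEquiv
  have hs : Function.Surjective f₀.toMonoidHom := f₀.surjective
  obtain ⟨g, hg⟩ := MulAction.exists_smul_eq K (T.mapSurjective hs) U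
  let f : K →* H := L.subtype.comp (f₀.symm.toMonoidHom.comp (MulAut.conj g⁻¹).toMonoidHom)
  have hfv : ∀ y : K, f y = ((f₀.symm (g⁻¹ * y * g) : L) : H) := by
    intro y
    show ((f₀.symm (MulAut.conj g⁻¹ y) : L) : H) = _
    rw [MulAut.conj_apply, inv_inv]
  have h1 : ∀ y : K, y ∈ (U : Subgroup K) ↔ g⁻¹ * y * g ∈ ((T : Subgroup L).map f₀.toMonoidHom) := by
    intro y
    have h2 : (U : Subgroup K) = MulAut.conj g • (T.mapSurjective hs : Subgroup K) := by
      rw [← hg, Sylow.coe_subgroup_smul]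
    rw [h2, Subgroup.mem_pointwise_smul_iff_inv_smul_mem]
    simp [MulAut.smul_def]
  refine ⟨f, L.subtype_injective.comp (f₀.symm.injective.comp (MulAut.conj g⁻¹).injective), ?_, ?_⟩
  · ext x
    constructor
    · rintro ⟨y, -, rfl⟩
      rw [hfv]
      exact Subtype.property _
    · intro hx
      refine ⟨g * f₀ ⟨x, hx⟩ * g⁻¹, mem_top _, ?_⟩
      rw [hfv]
      have h3 : g⁻¹ * (g * f₀ ⟨x, hx⟩ * g⁻¹) * g = f₀ ⟨x, hx⟩ := by group
      rw [h3, MulEquiv.symm_apply_apply]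
  · ext x
    constructor
    · rintro ⟨y, hy, rfl⟩
      obtain ⟨t, ht, hty⟩ := (h1 y).1 hy
      refine ⟨t, ht, ?_⟩
      rw [hfv, ← hty]
      show (t : H) = ((f₀.symm (f₀ t) : L) : H)
      rw [MulEquiv.symm_apply_apply]
    · rintro ⟨t, ht, rfl⟩
      have h3 : g⁻¹ * (g * f₀ t * g⁻¹) * g = f₀ t := by group
      refine ⟨g * f₀ t * g⁻¹, (h1 _).2 ⟨t, ht, h3.symm⟩, ?_⟩
      rw [hfv, h3, MulEquiv.symm_apply_apply]
      rfl

end map

end Cfsg.Agent.Omega.EH3
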