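import Cfsg.Agent.Omega.TwoF.LBsPrime
import Mathlib

/-!
# EH3: lower bound for modules from a primitive prime (helper234)

`lb_of_prim` : `p` prime divisor of `|K|` (`K` simple) with `p ∤ 2^d - 1` for `0 < d < n` : `LB K n`.
-/

set_option autoImplicit false

namespace Cfsg.Agent.Omega.EH3.Rank1

open Subgroup TwoF

universe u v

/-- a nontrivial automorphism of odd prime order `p` of an elementary abelian 2-group of order `< 2^n` -/
theorem card_of_prim {V : Type*} [CommGroup V] [Finite V] (h2 : ∀ x : V, x ^ 2 = 1) {p n : ℕ} (hp : p.Prime)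
    (hp2 : p ≠ 2) (hprim : ∀ d, 0 < d → d < n → ¬ p ∣ 2 ^ d - 1) {e : MulAut V} (he : e ^ p = 1) (he1 : e ≠ 1) :
    2 ^ n ≤ Nat.card V := by
  have : Fact p.Prime := ⟨hp⟩
  have : Fact (Nat.Prime 2) := ⟨Nat.prime_two⟩
  -- the fixed points
  let C : Subgroup V :=
    { carrier := {v | e v = v}
      one_mem' := map_one e
      mul_mem' := fun {x y} hx hy => by
        show e (x * y) = x * y
        rw [map_mul, show e x = x from hx, show e y = y from hy]
      inv_mem' := fun {x} hx => by
        show e x⁻¹ = x⁻¹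
        rw [map_inv, show e x = x from hx] }
  have hV : IsPGroup 2 V := fun x => ⟨1, by rw [pow_one]; exact h2 x⟩
  obtain ⟨m, hm⟩ := hV.exists_card_eq
  obtain ⟨c, hc⟩ := (hV.to_subgroup C).exists_card_eq
  have hCV : Nat.card C ≤ Nat.card V := Nat.card_le_card_of_injective _ C.subtype_injective
  have hne : Nat.card C ≠ Nat.card V := by
    intro h
    apply he1
    have hCt : C = ⊤ := by
      apply Subgroup.eq_top_of_card_eq
      exact h
    ext v
    have : v ∈ C := by rw [hCt]; exact mem_top v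
    exact this
  have hcm : c < m := by
    rw [hm, hc] at hCV hne
    have h1 := (Nat.pow_le_pow_iff_right (by norm_num)).1 hCV
    have h3 : c ≠ m := fun h => hne (by rw [h])
    omega
  -- the action of `⟨e⟩`
  let A : Subgroup (MulAut V) := zpowers e
  have hA : IsPGroup p A := by
    have h1 : orderOf e ∣ p ^ 1 := by rw [pow_one]; exact orderOf_dvd_of_pow_eq_one he
    obtain ⟨k, -, hk⟩ := (Nat.dvd_prime_pow hp).1 h1
    exact IsPGroup.of_card (n := k) (by rw [Nat.card_zpowers, hk])
  have h1 : Nat.card V ≡ Nat.card (MulAction.fixedPoints A V) [MOD p] := hA.card_modEq_card_fixedPoints V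
  have h3 : Nat.card (MulAction.fixedPoints A V) = Nat.card C := by
    apply Nat.card_congr
    refine Equiv.subtypeEquivRight fun v => ?_
    constructor
    · intro hv
      exact hv ⟨e, mem_zpowers e⟩
    · intro hv
      rintro ⟨_, k, rfl⟩
      show (e ^ k) v = v
      have hs : e ∈ MulAction.stabilizer (MulAut V) v := hv
      exact (zpow_mem hs k : e ^ k ∈ MulAction.stabilizer (MulAut V) v)
  rw [h3, hm, hc] at h1
  have h4 : p ∣ 2 ^ c * (2 ^ (m - c) - 1) := by
    have h5 := (Nat.modEq_iff_dvd' (Nat.pow_le_pow_right two_pos hcm.le)).1 h1.symm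
    have h6 : 2 ^ c * (2 ^ (m - c) - 1) = 2 ^ m - 2 ^ c := by
      rw [Nat.mul_sub, ← pow_add, mul_one]
      congr 2
      omega
    rw [h6]
    exact h5
  rcases hp.dvd_mul.1 h4 with h5 | h5
  · exfalso
    have h6 := hp.dvd_of_dvd_pow h5
    exact hp2 ((Nat.prime_dvd_prime_iff_eq hp Nat.prime_two).1 h6)
  · rw [hm]
    apply Nat.pow_le_pow_right two_pos
    by_contra hlt
    push Not at hlt
    exact hprim (m - c) (by omega) (by omega) h5

/-- **lower bound from a primitive prime** -/
theorem lb_of_prim {K : Type v} [Group K] [IsSimpleGroup K] {p n : ℕ} (hp : p.Prime) (hp2 : p ≠ 2)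
    (hpK : p ∣ Nat.card K) (hprim : ∀ d, 0 < d → d < n → ¬ p ∣ 2 ^ d - 1) : LB.{u} K n := by
  intro L _ _ π hπ V _ _ φ h2 h1
  have : Fact p.Prime := ⟨hp⟩
  have h3 : p ∣ Nat.card φ.range := hpK.trans (hπ.card_dvd_range h1)
  have hfin : Finite φ.range := Finite.of_surjective _ φ.rangeRestrict_surjective
  obtain ⟨e, he⟩ := exists_prime_orderOf_dvd_card' p h3
  refine card_of_prim h2 hp hp2 hprim (e := (e : MulAut V)) ?_ ?_
  · have h4 := pow_orderOf_eq_one e
    rw [he] at h4
    have h5 := congrArg Subtype.val h4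
    rwa [SubmonoidClass.coe_pow] at h5
  · intro h4
    have h5 : e = 1 := Subtype.ext h4
    rw [h5, orderOf_one] at he
    exact hp.ne_one he.symm

end Cfsg.Agent.Omega.EH3.Rank1
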