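import Cfsg.Agent.Omega.TwoF.RkPSU
import Cfsg.Agent.Omega.TwoF.Bridge

/-!
# EH3: elementary abelian 2-subgroups of `Aut (PSU₃(q))`, `q` even (helper234)

* `parallel` : orthogonal isotropic vectors of the 3-dimensional unitary space are proportional;
* `card_le_of_comm` : pairwise commuting elements of `GU₃(q)` with square 1: at most `q`;
* `rkAut` : an elementary abelian 2-subgroup of `Aut (PSU₃(q))` has order at most `2 q`.
-/

set_option autoImplicit false
set_option linter.unusedSectionVars false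

namespace Cfsg.Agent.Omega.EH3.Rank1.UThree

open Cfsg Matrix Cfsg.Agent.Omega.TwoF Cfsg.Agent.Omega.TwoF.RkLin Cfsg.Agent.Omega.TwoF.RkPSL
open Cfsg.Agent.Omega.TwoF.RkPSU
open Cfsg.Agent.LieClassical.HermBasic
open Cfsg.Agent.ClassicalGeometry.PSUAutCount (gm toAut gm_mul gm_one gm_mul_inv gm_inv_mul eq_of_toAut_eq gm_inj
  herm_gm sc gm_sc_mul toAut_sc_mul)
open Cfsg.Agent.Schreier.PSU (f₁ f₂ toAut_eq mapGU conj_field)

variable {F : Type*} [Field F] [Fintype F] {q : ℕ}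

theorem minors {x0 x1 x2 y0 y1 y2 X0 X1 X2 Y0 Y1 Y2 : F} (a : x0 * X0 + x1 * X1 + x2 * X2 = 0)
    (b : x0 * Y0 + x1 * Y1 + x2 * Y2 = 0) (c : y0 * X0 + y1 * X1 + y2 * X2 = 0)
    (d : y0 * Y0 + y1 * Y1 + y2 * Y2 = 0) :
    (x0 * y1 - x1 * y0) ^ 2 * (X0 * Y1 - X1 * Y0) = 0 := by
  have h1 : (x0 * y1 - x1 * y0) * X0 = (x1 * y2 - x2 * y1) * X2 := by linear_combination y1 * a - x1 * c
  have h2 : (x0 * y1 - x1 * y0) * X1 = (x2 * y0 - x0 * y2) * X2 := by linear_combination x0 * c - y0 * a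
  have h3 : (x0 * y1 - x1 * y0) * Y0 = (x1 * y2 - x2 * y1) * Y2 := by linear_combination y1 * b - x1 * d
  have h4 : (x0 * y1 - x1 * y0) * Y1 = (x2 * y0 - x0 * y2) * Y2 := by linear_combination x0 * d - y0 * b
  linear_combination ((x0 * y1 - x1 * y0) * Y1) * h1 + (x1 * y2 - x2 * y1) * X2 * h4
    - ((x0 * y1 - x1 * y0) * Y0) * h2 - (x2 * y0 - x0 * y2) * X2 * h3

/-- orthogonal isotropic vectors are proportional -/
theorem parallel (hF : Fintype.card F = q ^ 2) {u v : Fin 3 → F} (hu : hermForm 3 F q u u = 0)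
    (hv : hermForm 3 F q v v = 0) (huv : hermForm 3 F q u v = 0) (h0 : u ≠ 0) : ∃ c : F, v = c • u := by
  have hvu : hermForm 3 F q v u = 0 := herm_eq_zero_swap hF huv
  rw [herm_def, Fin.sum_univ_three] at hu hv huv hvu
  have key : ∀ {x y : F} (X Y : F) , (x * Y - y * X) ^ 2 * (x ^ q * Y ^ q - y ^ q * X ^ q) = 0 → x * Y - y * X = 0 := by
    intro x y X Y h
    rcases mul_eq_zero.1 h with h1 | h1
    · exact pow_eq_zero_iff (two_ne_zero) |>.1 h1
    · rw [← mul_pow, ← mul_pow, ← sub_pow_q hF] at h1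
      exact (pow_q_eq_zero hF).1 h1
  have m01 : u 0 * v 1 - u 1 * v 0 = 0 := key _ _ (minors hu huv hvu hv)
  have m12 : u 1 * v 2 - u 2 * v 1 = 0 := key _ _ (minors (x2 := u 0) (y2 := v 0) (X2 := u 0 ^ q) (Y2 := v 0 ^ q)
    (by linear_combination hu) (by linear_combination huv) (by linear_combination hvu) (by linear_combination hv))
  have m20 : u 2 * v 0 - u 0 * v 2 = 0 := key _ _ (minors (x2 := u 1) (y2 := v 1) (X2 := u 1 ^ q) (Y2 := v 1 ^ q)
    (by linear_combination hu) (by linear_combination huv) (by linear_combination hvu) (by linear_combination hv))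
  obtain ⟨i, hi⟩ : ∃ i, u i ≠ 0 := by
    by_contra hcon
    push Not at hcon
    exact h0 (funext hcon)
  have hmin : ∀ i j, u i * v j = u j * v i := by
    intro i j
    fin_cases i <;> fin_cases j
    · rfl
    · show u 0 * v 1 = u 1 * v 0
      linear_combination m01
    · show u 0 * v 2 = u 2 * v 0
      linear_combination -m20
    · show u 1 * v 0 = u 0 * v 1
      linear_combination -m01
    · rfl
    · show u 1 * v 2 = u 2 * v 1
      linear_combination m12
    · show u 2 * v 0 = u 0 * v 2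
      linear_combination m20
    · show u 2 * v 1 = u 1 * v 2
      linear_combination -m12
    · rfl
  refine ⟨v i / u i, ?_⟩
  ext j
  rw [Pi.smul_apply, smul_eq_mul, div_mul_eq_mul_div, eq_div_iff hi]
  linear_combination hmin i j

/-- `N = g + 1` -/
def NN (A : GU 3 F q) (x : Fin 3 → F) : Fin 3 → F := gm A *ᵥ x + x

theorem add_self' (h2 : (2 : F) = 0) (x : Fin 3 → F) : x + x = 0 := by
  ext i
  show x i + x i = 0
  linear_combination x i * h2

theorem NN_smul (A : GU 3 F q) (c : F) (x : Fin 3 → F) : NN A (c • x) = c • NN A x := by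
  unfold NN
  rw [mulVec_smul, smul_add]

theorem gm_gm {A : GU 3 F q} (hA : gm A * gm A = 1) (x : Fin 3 → F) : gm A *ᵥ (gm A *ᵥ x) = x := by
  rw [mulVec_mulVec, hA, one_mulVec]

theorem NN_NN (h2 : (2 : F) = 0) {A : GU 3 F q} (hA : gm A * gm A = 1) (x : Fin 3 → F) : NN A (NN A x) = 0 := by
  unfold NN
  rw [mulVec_add, gm_gm hA]
  have h := add_self' h2 (gm A *ᵥ x + x)
  rw [add_comm x] 
  exact h

/-- self-adjointness -/
theorem herm_NN (hF : Fintype.card F = q ^ 2) {A : GU 3 F q} (hA : gm A * gm A = 1) (x y : Fin 3 → F) :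
    hermForm 3 F q (NN A x) y = hermForm 3 F q x (NN A y) := by
  unfold NN
  rw [herm_add_left, herm_add_right hF]
  congr 1
  rw [← herm_gm A (gm A *ᵥ x) y, gm_gm hA]

theorem herm_NN_NN (hF : Fintype.card F = q ^ 2) (h2 : (2 : F) = 0) {A : GU 3 F q} (hA : gm A * gm A = 1)
    (x y : Fin 3 → F) : hermForm 3 F q (NN A x) (NN A y) = 0 := by
  rw [herm_NN hF hA, NN_NN h2 hA, herm_zero_right hF]

theorem NN_comm {A B : GU 3 F q} (h : gm A * gm B = gm B * gm A) (x : Fin 3 → F) : NN A (NN B x) = NN B (NN A x) := by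
  unfold NN
  rw [mulVec_add, mulVec_add, mulVec_mulVec, mulVec_mulVec, h]
  abel

/-- **pairwise commuting elements with square 1** -/
theorem card_le_of_comm (hF : Fintype.card F = q ^ 2) (h2 : (2 : F) = 0) {ι : Type*} [Finite ι] (A : ι → GU 3 F q)
    (hsq : ∀ i, gm (A i) * gm (A i) = 1) (hcomm : ∀ i j, gm (A i) * gm (A j) = gm (A j) * gm (A i))
    (hinj : ∀ i j, gm (A i) = gm (A j) → i = j) : Nat.card ι ≤ q := by
  classical
  have hq : 0 < q := q_pos hF
  have heq : ∀ i j, (∀ x, NN (A i) x = NN (A j) x) → i = j := by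
    intro i j h
    apply hinj
    apply Matrix.toLin'.injective
    apply LinearMap.ext
    intro x
    rw [Matrix.toLin'_apply, Matrix.toLin'_apply]
    exact add_right_cancel (h x)
  by_cases hall : ∀ i x, NN (A i) x = 0
  · have : Subsingleton ι := ⟨fun i j => heq i j fun x => by rw [hall, hall]⟩
    have h1 := Finite.card_le_one_iff_subsingleton.2 this
    omega
  push Not at hall
  obtain ⟨i₀, x₀, hv0⟩ := hall
  obtain ⟨v, hv⟩ : ∃ v, v = NN (A i₀) x₀ := ⟨_, rfl⟩
  rw [← hv] at hv0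
  have hvv : hermForm 3 F q v v = 0 := by rw [hv]; exact herm_NN_NN hF h2 (hsq i₀) _ _
  -- the image of `N₀`
  have him : ∀ y, ∃ c : F, NN (A i₀) y = c • v := by
    intro y
    refine parallel hF hvv (herm_NN_NN hF h2 (hsq i₀) _ _) ?_ hv0
    rw [hv]
    exact herm_NN_NN hF h2 (hsq i₀) _ _
  -- `N v = 0`
  have hNv : ∀ i, NN (A i) v = 0 := by
    intro i
    obtain ⟨μ, hμ⟩ := him (NN (A i) x₀)
    have h1 : NN (A i) v = μ • v := by rw [← hμ, hv, NN_comm (hcomm i i₀)]
    have h3 := NN_NN h2 (hsq i) v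
    rw [h1, NN_smul, h1, smul_smul] at h3
    have h4 : μ * μ = 0 := (smul_eq_zero.1 h3).resolve_right hv0
    rw [h1, mul_self_eq_zero.1 h4, zero_smul]
  have hpar : ∀ i y, ∃ c : F, NN (A i) y = c • v := by
    intro i y
    refine parallel hF hvv (herm_NN_NN hF h2 (hsq i) _ _) ?_ hv0
    rw [← herm_NN hF (hsq i), hNv, herm_zero_left]
  choose φ hφ using hpar
  obtain ⟨x₁, hx₁⟩ := exists_herm_ne_zero hF hv0
  have hx₁' : hermForm 3 F q x₁ v ≠ 0 := fun h => hx₁ (herm_eq_zero_swap hF h)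
  have hadj : ∀ i y, φ i y ^ q * hermForm 3 F q x₁ v = φ i x₁ * hermForm 3 F q v y := by
    intro i y
    have h1 := herm_NN hF (hsq i) x₁ y
    rw [hφ, hφ, herm_smul_left, herm_smul_right] at h1
    exact h1.symm
  let f : ι → {z : F // z ^ q = z} := fun i => ⟨hermForm 3 F q x₁ (NN (A i) x₁), by
    rw [← herm_swap hF, herm_NN hF (hsq i)]⟩
  have hf : Function.Injective f := by
    intro i j hij
    have h1 : hermForm 3 F q x₁ (NN (A i) x₁) = hermForm 3 F q x₁ (NN (A j) x₁) := congrArg Subtype.val hij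
    rw [hφ, hφ, herm_smul_right, herm_smul_right] at h1
    have h3 : φ i x₁ = φ j x₁ := (pow_q_inj hF).1 (mul_right_cancel₀ hx₁' h1)
    apply heq
    intro x
    rw [hφ, hφ]
    congr 1
    apply (pow_q_inj hF).1
    apply mul_right_cancel₀ hx₁'
    rw [hadj, hadj, h3]
  have h1 := Nat.card_le_card_of_injective f hf
  rwa [card_fixed hF] at h1

/-- linear automorphisms -/
theorem card_linear (hF : Fintype.card F = q ^ 2) (h2 : (2 : F) = 0) (hq2 : 2 ∣ q)
    (A : Subgroup (MulAut (PSU 3 F q))) (hA : ∀ x ∈ A, x * x = 1)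
    (h : ∀ x ∈ A, ∃ C : GU 3 F q, x = toAut C 1) : Nat.card A ≤ q := by
  have := finite_PSU (F := F) (q := q) (n := 3)
  have : Finite (MulAut (PSU 3 F q)) := finite_mulAut _
  obtain ⟨r, hr⟩ := hq2
  -- representatives with square 1
  have hrep : ∀ x : A, ∃ C : GU 3 F q, (x : MulAut (PSU 3 F q)) = toAut C 1 ∧ gm C * gm C = 1 := by
    rintro ⟨x, hx⟩
    obtain ⟨B, hB⟩ := h x hx
    have h1 : (toAut 1 1 : MulAut (PSU 3 F q)) = toAut (B * B) 1 := by
      rw [toAut_one, toAut_one, map_one, map_mul, ← toAut_one, ← hB, hA x hx]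
    obtain ⟨-, c, hc, hc1⟩ := eq_of_toAut_eq hF le_rfl h1
    rw [gm_one, gm_mul] at hc1
    have hc2 : c ^ (2 * r + 1) = 1 := by rw [← hr, pow_succ, mul_comm]; exact hc
    have he : c ^ r * (c ^ r) ^ q = 1 := by
      rw [← pow_mul, mul_comm r q, pow_mul, ← mul_pow, hc, one_pow]
    refine ⟨sc 3 ⟨c ^ r, he⟩ * B, ?_, ?_⟩
    · rw [toAut_sc_mul]
      exact hB
    · rw [gm_sc_mul, Matrix.smul_mul, Matrix.mul_smul, hc1, smul_smul, smul_smul]
      have h3 : c ^ r * c ^ r * c = 1 := by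
        rw [← hc2]
        ring
      show (c ^ r * c ^ r * c) • (1 : Matrix (Fin 3) (Fin 3) F) = 1
      rw [h3, one_smul]
  choose C hC hCsq using hrep
  refine card_le_of_comm hF h2 C hCsq ?_ ?_
  · intro x y
    have hxy : (x : MulAut (PSU 3 F q)) * y = y * x := by
      have h1 : ((x : MulAut (PSU 3 F q)) * y)⁻¹ = x * y := inv_eq_of_mul_eq_one_right (hA _ (A.mul_mem x.2 y.2))
      have h3 : (x : MulAut (PSU 3 F q))⁻¹ = x := inv_eq_of_mul_eq_one_right (hA _ x.2)
      have h4 : (y : MulAut (PSU 3 F q))⁻¹ = y := inv_eq_of_mul_eq_one_right (hA _ y.2)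
      rw [_root_.mul_inv_rev, h3, h4] at h1
      exact h1.symm
    have h1 : (toAut (C x * C y) 1 : MulAut (PSU 3 F q)) = toAut (C y * C x) 1 := by
      rw [toAut_one, toAut_one, map_mul, map_mul, ← toAut_one, ← toAut_one, ← hC, ← hC, hxy]
    obtain ⟨-, c, -, hc⟩ := eq_of_toAut_eq hF le_rfl h1
    rw [gm_mul, gm_mul] at hc
    -- `b a = c • a b`
    have h3 : gm (C x) = (c * c) • gm (C x) := by
      calc gm (C x) = gm (C y) * (gm (C y) * gm (C x)) := by rw [← Matrix.mul_assoc, hCsq, Matrix.one_mul]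
        _ = gm (C y) * (c • (gm (C x) * gm (C y))) := by rw [hc]
        _ = c • ((gm (C y) * gm (C x)) * gm (C y)) := by rw [Matrix.mul_smul, Matrix.mul_assoc]
        _ = c • ((c • (gm (C x) * gm (C y))) * gm (C y)) := by rw [hc]
        _ = (c * c) • gm (C x) := by
            rw [Matrix.smul_mul, Matrix.mul_assoc, hCsq, Matrix.mul_one, smul_smul]
    have h4 : (c * c) • (1 : Matrix (Fin 3) (Fin 3) F) = 1 := by
      have h5 := congrArg (fun M => M * gm (C x)) h3
      simp only [Matrix.smul_mul, hCsq] at h5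
      exact h5.symm
    have h5 : c * c = 1 := by
      have h6 := congrFun (congrFun h4 0) 0
      rw [Matrix.smul_apply, Matrix.one_apply_eq, smul_eq_mul, mul_one] at h6
      exact h6
    have h6 : c = 1 := by
      have h7 : (c - 1) * (c - 1) = 0 := by linear_combination h5 + (1 - c) * h2
      exact sub_eq_zero.1 (mul_self_eq_zero.1 h7)
    rw [h6, one_smul] at hc
    exact hc.symm
  · intro x y hxy
    apply Subtype.ext
    rw [hC x, hC y, gm_inj hxy]

/-- **`Aut (PSU₃(q))`, `q` even.** -/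
theorem rkAut (hF : Fintype.card F = q ^ 2) (h2 : (2 : F) = 0) {k : ℕ} (hk : 2 ≤ k) (hq : q = 2 ^ k) :
    RkAut (PSU 3 F q) (k + 1) := by
  have := finite_PSU (F := F) (q := q) (n := 3)
  have : Finite (MulAut (PSU 3 F q)) := finite_mulAut _
  have hq4 : 4 ≤ q := by
    rw [hq]
    calc 4 = 2 ^ 2 := by norm_num
      _ ≤ 2 ^ k := Nat.pow_le_pow_right two_pos hk
  have h32 : ¬ (3 = 3 ∧ q = 2) := by omega
  intro A hA
  have hall := Cfsg.Agent.ClassicalGeometry.PSUAutMain.exists_toAut (F := F) (q := q) (n := 3) hF le_rfl h32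
  have h1 : Nat.card A ≤ 2 * Nat.card (A ⊓ (f₁ : GU 3 F q →* MulAut (PSU 3 F q)).range : Subgroup _) := by
    apply card_le_two_mul
    intro x hx hxn y hy hyn
    obtain ⟨C, σ, hC⟩ := hall x
    obtain ⟨D, τ, hD⟩ := hall y
    have hsq : ∀ (C : GU 3 F q) (σ : F ≃+* F), toAut C σ * toAut C σ = 1 → σ * σ = 1 := by
      intro C σ h
      rw [toAut_mul] at h
      have h3 : (toAut (C * mapGU σ C) (σ * σ) : MulAut (PSU 3 F q)) = toAut 1 1 := by
        rw [h, toAut_one, map_one]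
      exact (eq_of_toAut_eq hF le_rfl h3).1.symm
    have hσ : σ * σ = 1 := hsq C σ (by rw [← hC]; exact hA x hx)
    have hτ : τ * τ = 1 := hsq D τ (by rw [← hD]; exact hA y hy)
    have hσ1 : σ ≠ 1 := by
      rintro rfl
      exact hxn ⟨hx, C, by rw [hC, toAut_one]⟩
    have hτ1 : τ ≠ 1 := by
      rintro rfl
      exact hyn ⟨hy, D, by rw [hD, toAut_one]⟩
    have hστ := field_inv_unique hσ hτ hσ1 hτ1
    refine ⟨mul_mem hx hy, C * mapGU σ D, ?_⟩
    rw [hC, hD, toAut_mul, ← hστ, hσ, toAut_one]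
  have h3 := card_linear hF h2 (by rw [hq]; exact dvd_pow_self 2 (by omega))
    (A ⊓ (f₁ : GU 3 F q →* MulAut (PSU 3 F q)).range)
    (fun x hx => hA x hx.1) (by
    rintro x ⟨-, C, hC⟩
    exact ⟨C, by rw [← hC, toAut_one]⟩)
  rw [pow_succ, ← hq]
  omega

end Cfsg.Agent.Omega.EH3.Rank1.UThree
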