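import Cfsg.Agent.Lib.Zsigmondy
import Cfsg.Agent.S0280
import Cfsg.Agent.Omega.TwoF.RowLU
import Cfsg.Agent.Omega.EH3.Rank1.RkUThree
import Cfsg.Agent.Omega.EH3.Rank1.LBPrim

/-!
# EH3: the row `PSU₃(q)`, `q ≥ 4` even (helper234)

By numbers: modules have dimension `≥ 6 k` (`q = 2^k`, primitive prime of `2^(6k) - 1`), elementary abelian
2-subgroups of the automorphism group rank `≤ k + 1`.

* `dead` : `Dead2 (PSU 3 F q)`;
* `row` : `RowEH3 (PSU 3 F q)`;
* `row_u3` : `RowEH3 K` for `K ≃* PSU 3 F q`.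
-/

set_option autoImplicit false

universe u v

namespace Cfsg.Agent.Omega.EH3.Rank1.UThree

open Cfsg Cfsg.Agent.Omega.TwoF

/-- the primitive prime -/
theorem exists_prime {q k : ℕ} (hk : 2 ≤ k) (hq : q = 2 ^ k) {F : Type*} [Field F] [Fintype F]
    (hF : Fintype.card F = q ^ 2) :
    ∃ r, r.Prime ∧ r ≠ 2 ∧ r ∣ Nat.card (PSU 3 F q) ∧ ∀ d, 0 < d → d < 6 * k → ¬ r ∣ 2 ^ d - 1 := by
  obtain ⟨r, hr, hrn, -, hr2'⟩ := Cfsg.Agent.Lib.Zsigmondy.exists_primitive (a := 2) (n := 6 * k)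
    le_rfl (by omega) (fun h => by omega) (fun h => by omega)
  have hr2 : r ≠ 2 := by
    rintro rfl
    exact hr2' dvd_rfl
  refine ⟨r, hr, hr2, ?_, ?_⟩
  · have h1 := Cfsg.Agent.S0280.result hF 3 (by norm_num)
    have h2 : r ∣ q ^ (3 * (3 - 1) / 2) * ∏ i ∈ Finset.range 3,
        (if Even i then q ^ (i + 1) + 1 else q ^ (i + 1) - 1) := by
      apply Dvd.dvd.mul_left
      have h3 : r ∣ q ^ 6 - 1 := by
        rw [hq, ← pow_mul, mul_comm k 6]
        exact (hrn _).2 dvd_rfl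
      have h4 : ¬ r ∣ q ^ 3 - 1 := by
        rw [hq, ← pow_mul, hrn]
        intro h5
        have := Nat.le_of_dvd (by omega) h5
        omega
      have h5 : q ^ 6 - 1 = (q ^ 3 - 1) * (q ^ 3 + 1) := by
        have h6 : 1 ≤ q ^ 3 := Nat.one_le_pow _ _ (by rw [hq]; positivity)
        obtain ⟨a, ha⟩ : ∃ a, q ^ 3 = a + 1 := ⟨q ^ 3 - 1, by omega⟩
        have h7 : q ^ 6 = (q ^ 3) ^ 2 := by rw [← pow_mul]
        rw [h7, ha]
        have h8 : (a + 1) ^ 2 = a * (a + 2) + 1 := by ring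
        rw [h8, Nat.add_sub_cancel, Nat.add_sub_cancel]
      rw [h5] at h3
      have h6 := (hr.dvd_mul.1 h3).resolve_left h4
      have h9 := Finset.dvd_prod_of_mem (fun i => if Even i then q ^ (i + 1) + 1 else q ^ (i + 1) - 1)
        (Finset.mem_range.2 (show 2 < 3 by norm_num))
      simp only [show Even 2 by decide, if_true] at h9
      exact h6.trans h9
    rw [← h1] at h2
    rcases hr.dvd_mul.1 h2 with h3 | h3
    · exfalso
      have h4 : r ∣ 3 := h3.trans (Nat.gcd_dvd_left 3 (q + 1))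
      have h5 : r ∣ 2 ^ 2 - 1 := h4
      rw [hrn] at h5
      have := Nat.le_of_dvd (by omega) h5
      omega
    · rcases hr.dvd_mul.1 h3 with h4 | h4
      · exfalso
        have h5 : r ∣ 2 ^ (2 * k) - 1 := by
          have h6 : 2 ^ (2 * k) - 1 = (q + 1) * (q - 1) := by
            rw [mul_comm 2 k, pow_mul, ← hq]
            have := Nat.sq_sub_sq q 1
            rwa [one_pow] at this
          rw [h6]
          exact h4.mul_right _
        have h7 := Nat.le_of_dvd (by omega) ((hrn (2 * k)).1 h5)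
        omega
      · exact h4
  · intro d h0 hd h
    have := Nat.le_of_dvd h0 ((hrn d).1 h)
    omega

variable {F : Type} [Field F] [Fintype F] {q : ℕ}

theorem simple_psu (hF : Fintype.card F = q ^ 2) (hq : q ≠ 2) :
    IsSimpleGroup (PSU 3 F q) ∧ Subgroup.center (PSU 3 F q) = ⊥ := by
  have h32 : ¬ (3 = 3 ∧ q = 2) := fun h => hq h.2
  haveI hs := Cfsg.Agent.S0283.result hF 3 le_rfl h32
  exact ⟨hs, RowLU.center_bot_of_perf (RowLU.perf_of_surjective _
    (Cfsg.Agent.ClassicalGeometry.UnitAutBasic.pr_surjective (n := 3) (F := F) (q := q))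
    (Cfsg.Agent.LieClassical.HermPerfect.commutator_SU_eq_top hF le_rfl h32))⟩

/-- **`PSU₃(q)`, `q ≥ 4` even, is dead by numbers** -/
theorem dead (hF : Fintype.card F = q ^ 2) (h2 : (2 : F) = 0) {k : ℕ} (hk : 2 ≤ k) (hq : q = 2 ^ k) :
    Dead2.{u} (PSU 3 F q) := by
  have hq2 : q ≠ 2 := by
    intro h
    rw [hq] at h
    have : 2 ^ 2 ≤ 2 ^ k := Nat.pow_le_pow_right two_pos hk
    omega
  obtain ⟨hs, -⟩ := simple_psu hF hq2
  obtain ⟨r, hr, hr2, hrK, hprim⟩ := exists_prime hk hq hF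
  haveI : Finite (PSU 3 F q) := RkPSU.finite_PSU
  exact Dead2.of_lb (lb_of_prim hr hr2 hrK hprim) (RK.of_mul_self (rkAut hF h2 hk hq)) (by omega)

/-- `q` is a power of 2 -/
theorem exists_pow (hF : Fintype.card F = q ^ 2) (h2 : (2 : F) = 0) (hq : 4 ≤ q) : ∃ k, 2 ≤ k ∧ q = 2 ^ k := by
  have hc : CharP F 2 := CharTwo.of_one_ne_zero_of_two_eq_zero one_ne_zero h2
  obtain ⟨a, _, ha⟩ := FiniteField.card F 2
  have h6 : q ∣ 2 ^ (a : ℕ) := by
    rw [← ha, hF]
    exact dvd_pow_self q (by norm_num)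
  obtain ⟨f, _, hf⟩ := (Nat.dvd_prime_pow Nat.prime_two).1 h6
  refine ⟨f, ?_, hf⟩
  by_contra hlt
  have h7 : f = 0 ∨ f = 1 := by omega
  rcases h7 with rfl | rfl <;> simp at hf <;> omega

/-- **the row `PSU₃(q)`, `q ≥ 4` even** -/
theorem row (hF : Fintype.card F = q ^ 2) (h2 : (2 : F) = 0) (hq : 4 ≤ q) : RowEH3.{u} (PSU 3 F q) := by
  obtain ⟨k, hk, hqk⟩ := exists_pow hF h2 hq
  obtain ⟨hs, hc⟩ := simple_psu hF (show q ≠ 2 by omega)
  exact RowEH3.of_dead hc (dead hF h2 hk hqk)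

/-- the row `K ≃* PSU₃(q)`, `q ≥ 4` even -/
theorem row_u3 {K : Type v} [Group K] (hF : Fintype.card F = q ^ 2) (h2 : (2 : F) = 0) (hq : 4 ≤ q)
    (e : K ≃* PSU 3 F q) : RowEH3.{u} K :=
  (row hF h2 hq).equiv e

/-- the row `K ≃* PSU₃(q)` over a field of characteristic 2, `K` not `PSU₃(2)` -/
theorem row_u3' {K : Type v} [Group K] [CharP F 2] (hF : Fintype.card F = q ^ 2) (hq : q ≠ 2)
    (e : K ≃* PSU 3 F q) : RowEH3.{u} K := by
  have h2 : (2 : F) = 0 := by exact_mod_cast CharP.cast_eq_zero F 2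
  refine row_u3 hF h2 ?_ e
  obtain ⟨a, _, ha⟩ := FiniteField.card F 2
  have h6 : q ∣ 2 ^ (a : ℕ) := by
    rw [← ha, hF]
    exact dvd_pow_self q (by norm_num)
  obtain ⟨f, _, hf⟩ := (Nat.dvd_prime_pow Nat.prime_two).1 h6
  have h7 : 2 ≤ f := by
    by_contra hlt
    have h7 : f = 0 ∨ f = 1 := by omega
    rcases h7 with rfl | rfl
    · rw [pow_zero] at hf
      subst hf
      have := Fintype.one_lt_card (α := F)
      rw [hF] at this
      norm_num at this
    · exact hq (by rw [hf, pow_one])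
  rw [hf]
  calc 4 = 2 ^ 2 := rfl
    _ ≤ 2 ^ f := Nat.pow_le_pow_right two_pos h7

end Cfsg.Agent.Omega.EH3.Rank1.UThree
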